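import Mathlib
import Cfsg.Agent.S0205
import Cfsg.Agent.Lib.Inv73.ZStar
import Cfsg.Agent.Lib.Syl2.PronLin

/-!
# Group theory for pronormality of subgroups of odd index in products
-/

set_option autoImplicit false

namespace H82.SpP

open Subgroup H61 Cfsg
open scoped Pointwise commutatorElement

variable {G : Type*} [Group G]

theorem normal_zpowers {u : G} (hu : ∀ g, g * u = u * g) : (zpowers u).Normal := ⟨by
  rintro _ ⟨k, rfl⟩ g
  exact ⟨k, by rw [← conj_zpow, hu g, mul_inv_cancel_right]⟩⟩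

theorem mem_zpowers_two {u x : G} (u2 : u * u = 1) : x ∈ zpowers u ↔ x = 1 ∨ x = u := ⟨by
  rintro ⟨k, rfl⟩
  have : u ^ (2 : ℤ) = 1 := by rw [zpow_two, u2]
  rcases Int.even_or_odd' k with ⟨i, rfl | rfl⟩ <;>
    simp only [zpow_add, zpow_mul, this] <;> simp, by
  rintro (rfl | rfl)
  exacts [one_mem _, mem_zpowers _]⟩

theorem mem_of_sq_mem {O : Subgroup G} {x : G} (ho : Odd (orderOf x)) (h : x * x ∈ O) : x ∈ O := by
  obtain ⟨r, hr⟩ := ho
  have := pow_mem h (r + 1)
  rwa [← pow_two, ← pow_mul, show 2 * (r + 1) = 2 * r + 1 + 1 by ring, ← hr, pow_succ,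
    pow_orderOf_eq_one, one_mul] at this

theorem index_pi' {ι : Type*} [Fintype ι] {G : ι → Type*} [∀ i, Group (G i)]
    (H : ∀ i, Subgroup (G i)) : (Subgroup.pi Set.univ H).index = ∏ i, (H i).index := by
  simp_rw [index, ← Nat.card_pi]
  refine Nat.card_congr
    ((Quotient.congrRight (fun x y ↦ ?_)).trans (Setoid.piQuotientEquiv _).symm)
  rw [QuotientGroup.leftRel_pi]

theorem exists_odd_lift {u : G} (hu : ∀ g, g * u = u * g) (u2 : u * u = 1) [(zpowers u).Normal]
    (N : Subgroup (G ⧸ zpowers u)) [hn : N.Normal] (hN : Odd (Nat.card N)) :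
    ∃ O : Subgroup G, O.Normal ∧ Odd (Nat.card O) ∧
      ∀ x : G, (x : G ⧸ zpowers u) ∈ N → x * x ∈ O := by
  set M := N.comap (QuotientGroup.mk' (zpowers u))
  have hi : ((zpowers u).subgroupOf M).index = Nat.card N := by
    have := relIndex_ker M (QuotientGroup.mk' (zpowers u))
    rwa [QuotientGroup.ker_mk', map_comap_eq_self_of_surjective
      (QuotientGroup.mk'_surjective _)] at this
  have hc : Nat.card ((zpowers u).subgroupOf M) ∣ 2 := by
    refine (card_comap_dvd_of_injective _ _ M.subtype_injective).trans ?_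
    rw [Nat.card_zpowers]
    exact orderOf_dvd_of_pow_eq_one (by rw [pow_two, u2])
  obtain ⟨K, hK⟩ := exists_right_complement'_of_coprime (N := (zpowers u).subgroupOf M)
    (by rw [hi]; exact (Nat.coprime_two_left.2 hN).coprime_dvd_left hc)
  have hk : Odd (Nat.card (K.map M.subtype)) := by
    rwa [card_map_of_injective M.subtype_injective, ← hK.symm.index_eq_card, hi]
  have key : ∀ x : G, (x : G ⧸ zpowers u) ∈ N → x * x ∈ K.map M.subtype := fun x hx => by
    obtain ⟨⟨z, k⟩, e, -⟩ := hK.existsUnique ⟨x, hx⟩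
    obtain rfl : (z : G) * k = x := congrArg Subtype.val e
    have h1 : ((k : M) : G) * k ∈ K.map M.subtype := mem_map_of_mem _ (mul_mem k.2 k.2)
    rcases (mem_zpowers_two u2).1 (mem_subgroupOf.1 z.2) with h | h <;> rw [h]
    · simpa using h1
    · rwa [mul_assoc, ← mul_assoc _ u, hu, mul_assoc, ← mul_assoc u, u2, one_mul]
  refine ⟨_, ⟨fun x hx g => ?_⟩, hk, key⟩
  refine mem_of_sq_mem ?_ (key _ ?_)
  · rw [H9.orderOf_conj]
    exact hk.of_dvd_nat (orderOf_dvd_natCard _ hx)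
  · obtain ⟨y, -, rfl⟩ := hx
    exact hn.conj_mem _ y.2 (g : G ⧸ zpowers u)

variable [Finite G]

theorem exists_normal_comm (O : Subgroup G) [O.Normal] (hO : Odd (Nat.card O)) (C : Subgroup G)
    (h : ¬ O ≤ C) : ∃ A : Subgroup G, A.Normal ∧ A ≤ O ∧ ¬ A ≤ C ∧ ⁅A, A⁆ ≤ C := by
  classical
  obtain ⟨n, hn⟩ := (Cfsg.Agent.S0205.result hO).solvable
  have h1 : ∃ n, (derivedSeries O n).map O.subtype ≤ C := ⟨n, by simp [hn]⟩
  obtain ⟨k, hk⟩ := Nat.exists_eq_succ_of_ne_zero (n := Nat.find h1) fun h0 => h (by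
    have := Nat.find_spec h1
    rwa [h0, derivedSeries_zero, ← MonoidHom.range_eq_map, range_subtype] at this)
  refine ⟨(derivedSeries O k).map O.subtype, inferInstance, map_subtype_le _,
    Nat.find_min h1 (by omega), ?_⟩
  have := Nat.find_spec h1
  rwa [hk, derivedSeries_succ, map_commutator] at this

theorem zstar_mod {u t : G} (hu : ∀ g, g * u = u * g) (u2 : u * u = 1) (t2 : t * t = 1)
    (t1 : t ≠ 1) (tu : t ≠ u) (iso : ∀ g s, s = g * t * g⁻¹ →
      s * t * s⁻¹ = t ∨ s * t * s⁻¹ = t * u → s = t ∨ s = t * u) :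
    ∃ O : Subgroup G, O.Normal ∧ Odd (Nat.card O) ∧
      ∀ g, (t * g * t⁻¹ * g⁻¹) * (t * g * t⁻¹ * g⁻¹) ∈ O := by
  have := normal_zpowers hu
  let π := QuotientGroup.mk' (zpowers u)
  have mk : ∀ a b, π a = π b ↔ b = a ∨ b = a * u := fun a b => by
    rw [QuotientGroup.mk'_apply, QuotientGroup.mk'_apply, QuotientGroup.eq, mem_zpowers_two u2,
      inv_mul_eq_one, inv_mul_eq_iff_eq_mul, eq_comm]
  have h1 := H73.centralizer_sup_oddCore_eq_top' (u := π t) (H9.orderOf_eq_two_of_mul_self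
    (fun e => by rcases (mk 1 t).1 (by rw [e, map_one]) with e | e <;> simp_all)
    (by rw [← map_mul, t2, map_one])) fun g' hg => by
      obtain ⟨g, rfl⟩ := QuotientGroup.mk'_surjective _ g'
      change Commute (π g * _ * (π g)⁻¹) _ at hg
      change π g * _ * (π g)⁻¹ = _
      rw [← map_inv, ← map_mul, ← map_mul] at hg ⊢
      generalize hs : g * t * g⁻¹ = s at hg
      exact ((mk _ _).2 (iso g s hs.symm ((mk _ _).1 (by
        rw [map_mul, map_mul, hg.eq, map_inv, mul_inv_cancel_right])))).symm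
  have hn : (oddCore (G ⧸ zpowers u)).Normal := pPrimeCore_normal 2 _
  obtain ⟨O, h2, h3, h4⟩ := exists_odd_lift hu u2 (oddCore _) H1.odd_card_oddCore
  refine ⟨O, h2, h3, fun g => h4 _ ?_⟩
  have h5 : π g ∈ ((centralizer {π t} ⊔ oddCore _ : Subgroup _) : Set _) := h1.ge (mem_top _)
  rw [mul_normal] at h5
  obtain ⟨c, hc, o, ho, e⟩ := h5
  change π _ ∈ _
  simp only [map_mul, map_inv, ← e]
  have h6 := hn.conj_mem _ (mul_mem (hn.conj_mem _ ho (π t)) (inv_mem ho)) c
  rw [← mul_assoc (π t), ← mem_centralizer_singleton_iff.1 hc]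
  simpa [mul_assoc] using h6

theorem zstar_cases {u t : G} (hu : ∀ g, g * u = u * g) (u2 : u * u = 1) (t2 : t * t = 1)
    (t1 : t ≠ 1) (tu : t ≠ u) (iso : ∀ g s, s = g * t * g⁻¹ →
      s * t * s⁻¹ = t ∨ s * t * s⁻¹ = t * u → s = t ∨ s = t * u) :
    (∀ g, g * t * g⁻¹ = t ∨ g * t * g⁻¹ = t * u) ∨ ∃ O : Subgroup G, O.Normal ∧ Odd (Nat.card O) ∧
      ∃ n ∈ O, n * t * n⁻¹ * t ≠ t * (n * t * n⁻¹) ∧ ∀ g,
        ⁅t * (n * t * n⁻¹), g * (t * (n * t * n⁻¹)) * g⁻¹⁆ ∈ O ⊓ centralizer {t} := by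
  obtain ⟨O, hn, ho, h⟩ := zstar_mod hu u2 t2 t1 tu iso
  have ti : t⁻¹ = t := inv_eq_of_mul_eq_one_right t2
  have s2 : ∀ g, g * t * g⁻¹ * (g * t * g⁻¹) = 1 := fun g => by rw [conj_mul, t2]; simp
  have h1 : ∀ x ∈ O, x * x = 1 → x = 1 := fun x hx e => eq_one_of_odd_of_two (k := 1) ho
    (orderOf_dvd_iff_pow_eq_one.1 (orderOf_dvd_natCard _ hx)) (by rw [pow_one, pow_two, e])
  by_cases hO : O ≤ centralizer {t}
  · refine Or.inl fun g => iso g _ rfl (Or.inl ?_)
    have h2 := h g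
    rw [ti, mul_assoc t, mul_assoc t] at h2
    have h3 := H9.conj_pow_of_inverts (H9.left_inverts t2 (s2 g)) 2
    rw [pow_two, ← mem_centralizer_singleton_iff.1 (hO h2), mul_inv_cancel_right] at h3
    have h4 := h1 _ h2 (eq_inv_iff_mul_eq_one.1 h3)
    rw [inv_eq_of_mul_eq_one_right (s2 g), ← ti, eq_inv_iff_mul_eq_one, ti]
    rw [mul_assoc, mul_eq_one_comm] at h4
    simpa only [mul_assoc] using h4
  obtain ⟨A, hA, h2, h3, h4⟩ := exists_normal_comm O ho _ hO
  obtain ⟨n, h5, h6⟩ := SetLike.not_le_iff_exists.1 h3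
  have h7 : t * (n * t * n⁻¹) ∈ A := by
    simpa [ti, mul_assoc] using mul_mem (hA.conj_mem n h5 t) (inv_mem h5)
  refine Or.inr ⟨O, hn, ho, n, h2 h5, fun e => h6 (mem_centralizer_singleton_iff.2 ?_), fun g =>
    have := commutator_mem_commutator h7 (hA.conj_mem _ h7 g)
    ⟨h2 (commutator_le_left _ _ this), h4 this⟩⟩
  have := h1 _ (h2 h7) (by
    rw [mul_assoc, ← mul_assoc _ t, e, mul_assoc, s2, mul_one, t2])
  rw [mul_eq_one_iff_inv_eq, ti, eq_mul_inv_iff_mul_eq] at this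
  exact this.symm

/-- the properties of a Sylow `2`-subgroup which pass to products -/
structure PN (S : Subgroup G) : Prop where
  syl : SylIn 2 S ⊤
  comm : ∀ g ∈ normalizer (S : Set G), ∀ n ∈ normalizer (S : Set G), g * n * g⁻¹ * n⁻¹ ∈ S
  dich : ∀ H, S ≤ H → ∀ g ∈ normalizer (S : Set G),
    g ∈ H ⊔ MulAut.conj g • H ∨ g ∈ normalizer (H : Set G)

theorem PN.comm_mem {S H : Subgroup G} (h : PN S) (hH : S ≤ H) {g x : G}
    (hg : g ∈ normalizer (S : Set G)) (hg' : g ∈ normalizer (H : Set G))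
    (hx : ∀ y ∈ H, x * y * x⁻¹ ∈ H) : g * x * g⁻¹ * x⁻¹ ∈ H := by
  obtain ⟨c, hc, e⟩ := (h.syl.mono hH le_top).exists_conj_eq ((h.syl.map_conj (mem_top x)).mono
    (by rintro _ ⟨y, hy, rfl⟩; exact hx y (hH hy)) le_top)
  have h1 : c * x ∈ normalizer (S : Set G) := mem_normalizer_fintype fun s hs =>
    e.le ⟨_, ⟨s, hs, rfl⟩, by simp [mul_assoc]⟩
  have := mul_mem (mul_mem ((mem_normalizer_iff.1 hg' _).1 (inv_mem hc))
    (hH (h.comm g hg _ h1))) hc
  simpa [mul_assoc] using this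

theorem pronormal_pi {ι : Type*} [Finite ι] {G : ι → Type*} [∀ i, Group (G i)]
    [∀ i, Finite (G i)] {S : ∀ i, Subgroup (G i)} (h : ∀ i, PN (S i))
    {H : Subgroup (Π i, G i)} (hH : Odd H.index) : IsPronormal H := by
  classical
  have := Fintype.ofFinite ι
  have hP : SylIn 2 (Subgroup.pi Set.univ S) ⊤ := by
    refine ⟨le_top, fun x => ?_, ?_⟩
    · choose k hk using fun i => (h i).syl.pgrp ⟨x.1 i, x.2 i trivial⟩
      refine ⟨∑ i, k i, Subtype.ext (funext fun i => ?_)⟩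
      obtain ⟨d, hd⟩ := Nat.exists_eq_add_of_le
        (Finset.single_le_sum (f := k) (fun _ _ => Nat.zero_le _) (Finset.mem_univ i))
      change x.1 i ^ 2 ^ _ = 1
      rw [hd, pow_add, pow_mul, show x.1 i ^ 2 ^ k i = 1 from congrArg Subtype.val (hk i), one_pow]
    · rw [relIndex_top_right, index_pi', Nat.prime_two.prime.dvd_finsetProd_iff]
      rintro ⟨i, -, hi⟩
      exact (h i).syl.idx (by rwa [relIndex_top_right])
  suffices ∀ H, Subgroup.pi Set.univ S ≤ H → IsPronormal H by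
    obtain ⟨P, hP'⟩ := SylIn.exists_sylIn (p := 2) H
    obtain ⟨k, -, e⟩ := hP.exists_conj_eq (hP'.of_trans le_top
      (by rw [relIndex_top_right]; exact hH.not_two_dvd_nat))
    have h1 := H77.isPronormal_conj (this (MulAut.conj k • H)
      (by rw [← e, H1.conj_smul_eq_map]; exact map_mono hP'.le)) k⁻¹
    rwa [H1.conj_inv_smul_conj_smul] at h1
  intro H hH
  obtain ⟨P, e⟩ := hP.exists_sylow_top
  refine H77.isPronormal_of_normalizer hH (e ▸ H77.isPronormal_sylow P) fun g hg => ?_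
  have cj : ∀ (x : Π i, G i) i y, x * Pi.mulSingle i y * x⁻¹ = Pi.mulSingle i (x i * y * (x i)⁻¹) :=
    fun x i y => funext fun j => by
      by_cases hj : j = i
      · subst hj; simp
      · simp [hj]
  have hS : ∀ i, ∀ s ∈ S i, Pi.mulSingle i s ∈ Subgroup.pi Set.univ S := fun i s hs j _ => by
    by_cases hj : j = i
    · subst hj; simpa using hs
    · simp [hj]
  have hg' : ∀ i, g i ∈ normalizer (S i : Set (G i)) := fun i => mem_normalizer_fintype fun s hs => by
    simpa [cj] using (mem_normalizer_iff.1 hg _).1 (hS i s hs) i trivial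
  let K : ∀ i, Subgroup (G i) := fun i => H.comap (MonoidHom.mulSingle G i)
  have hK : ∀ i, S i ≤ K i := fun i s hs => hH (hS i s hs)
  refine ⟨fun i => if g i ∈ K i ⊔ MulAut.conj (g i) • K i then g i else 1,
    pi_mem_of_mulSingle_mem _ fun i => ?_, pi_mem_of_mulSingle_mem _ fun i => ?_⟩
  · split_ifs with hi
    · refine (sup_le (fun y hy => mem_sup_left hy) fun y hy => mem_sup_right ?_ :
        _ ≤ (H ⊔ MulAut.conj g • H).comap (MonoidHom.mulSingle G i)) hi
      rw [H1.mem_conj_smul_iff] at hy ⊢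
      have := cj g⁻¹ i y
      simp only [inv_inv, Pi.inv_apply] at this
      exact this ▸ hy
    · simp
  · rw [Pi.mul_apply, Pi.inv_apply]
    split_ifs with hi
    · simp
    refine mem_normalizer_fintype fun x hx => ?_
    have h1 : Pi.mulSingle i (g i * x i * (g i)⁻¹ * (x i)⁻¹) ∈ H :=
      (h i).comm_mem (hK i) (hg' i) (((h i).dich _ (hK i) _ (hg' i)).resolve_left hi) fun y hy => by
        change Pi.mulSingle i _ ∈ H
        rw [← cj]
        exact mul_mem (mul_mem hx hy) (inv_mem hx)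
    refine (congrArg (· ∈ H) (funext fun j => ?_)).mp (mul_mem h1 hx)
    by_cases hj : j = i
    · subst hj; simp
    · simp [hj]

end H82.SpP
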