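import Mathlib
import Cfsg.Agent.Lib.SpPron.Grp

/-!
# Quaternions of norm one over a finite field
-/

set_option autoImplicit false

namespace H82.SpP

open Subgroup H61 Cfsg Quaternion
open scoped commutatorElement

attribute [local simp] Unitary.coe_neg

variable {F : Type*} [Field F]

/-- quaternions of norm one -/
abbrev U1 (F : Type*) [Field F] := unitary ℍ[F]

theorem mem_U1 {x : ℍ[F]} : x ∈ unitary ℍ[F] ↔ normSq x = 1 := by
  rw [Unitary.mem_iff, star_mul_self, self_mul_star, and_self, ← Quaternion.coe_one, Quaternion.coe_inj]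

theorem norm_U1 (x : U1 F) : normSq x.val = 1 := mem_U1.1 x.2

instance finiteQuat [Finite F] : Finite ℍ[F] := Module.finite_of_finite F

/-- a quaternion with given coordinates -/
def mkQ (a b c d : F) : ℍ[F] := ⟨a, b, c, d⟩

@[simp] theorem mkQ_re (a b c d : F) : (mkQ a b c d).re = a := rfl
@[simp] theorem mkQ_imI (a b c d : F) : (mkQ a b c d).imI = b := rfl
@[simp] theorem mkQ_imJ (a b c d : F) : (mkQ a b c d).imJ = c := rfl
@[simp] theorem mkQ_imK (a b c d : F) : (mkQ a b c d).imK = d := rfl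

/-- the unit `i` -/
def ui : U1 F := ⟨mkQ 0 1 0 0, mem_U1.2 (by simp [normSq_def'])⟩
/-- the unit `j` -/
def uj : U1 F := ⟨mkQ 0 0 1 0, mem_U1.2 (by simp [normSq_def'])⟩
/-- the unit `k` -/
def uk : U1 F := ⟨mkQ 0 0 0 1, mem_U1.2 (by simp [normSq_def'])⟩

@[simp] theorem ii : (ui * ui : U1 F) = -1 := Subtype.ext (by ext <;> simp [ui])
@[simp] theorem jj : (uj * uj : U1 F) = -1 := Subtype.ext (by ext <;> simp [uj])
@[simp] theorem kk : (uk * uk : U1 F) = -1 := Subtype.ext (by ext <;> simp [uk])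
@[simp] theorem ij : (ui * uj : U1 F) = uk := Subtype.ext (by ext <;> simp [ui, uj, uk])
@[simp] theorem jk : (uj * uk : U1 F) = ui := Subtype.ext (by ext <;> simp [ui, uj, uk])
@[simp] theorem ki : (uk * ui : U1 F) = uj := Subtype.ext (by ext <;> simp [ui, uj, uk])
@[simp] theorem ji : (uj * ui : U1 F) = -uk := Subtype.ext (by ext <;> simp [ui, uj, uk])
@[simp] theorem kj : (uk * uj : U1 F) = -ui := Subtype.ext (by ext <;> simp [ui, uj, uk])
@[simp] theorem ik : (ui * uk : U1 F) = -uj := Subtype.ext (by ext <;> simp [ui, uj, uk])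

/-- commuting up to sign -/
def SC (x y : U1 F) : Prop := x * y = y * x ∨ x * y = -(y * x)

theorem SC.symm {x y : U1 F} (h : SC x y) : SC y x :=
  h.imp Eq.symm fun h => by rw [h, neg_neg]

/-- the elements commuting with `v` up to sign -/
def scG (v : U1 F) : Subgroup (U1 F) where
  carrier := {x | SC x v}
  one_mem' := Or.inl (by simp)
  mul_mem' := fun {x y} hx hy => by
    change x * y * v = _ ∨ x * y * v = _
    rcases hx with hx | hx <;> rcases hy with hy | hy <;>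
      simp only [mul_assoc, hy, mul_neg] <;> simp [← mul_assoc, hx]
  inv_mem' := fun {x} hx => hx.imp
    (fun h => by rw [inv_mul_eq_iff_eq_mul, ← mul_assoc, h, mul_inv_cancel_right])
    fun h => by rw [inv_mul_eq_iff_eq_mul, mul_neg, ← mul_assoc, h]; simp

theorem sc_conj {x v : U1 F} : SC x v ↔ x * v * x⁻¹ = v ∨ x * v * x⁻¹ = -v := by
  simp only [SC, mul_inv_eq_iff_eq_mul, neg_mul]

/-- the quaternion group -/
def Q8 (F : Type*) [Field F] : Subgroup (U1 F) := scG ui ⊓ scG uj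

theorem i_mem : (ui : U1 F) ∈ Q8 F := ⟨Or.inl rfl, Or.inr (by simp)⟩
theorem j_mem : (uj : U1 F) ∈ Q8 F := ⟨Or.inr (by simp), Or.inl rfl⟩
theorem k_mem : (uk : U1 F) ∈ Q8 F := ij (F := F) ▸ mul_mem i_mem j_mem
theorem neg_one_mem : (-1 : U1 F) ∈ Q8 F := ii (F := F) ▸ mul_mem i_mem i_mem

theorem neg_mem_iff' {K : Subgroup (U1 F)} (h : -1 ∈ K) {x : U1 F} : -x ∈ K ↔ x ∈ K := by
  rw [← neg_one_mul, mul_mem_cancel_left h]

theorem eq_or_neg {x v : U1 F} {a : F} (h : x.val = a • v.val) : x = v ∨ x = -v := by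
  have := norm_U1 x
  rw [h, normSq_smul, norm_U1, mul_one, sq_eq_one_iff] at this
  exact this.imp (fun e => Subtype.ext (by simp [h, e])) fun e => Subtype.ext (by simp [h, e])

variable [NeZero (2 : F)]

theorem eq_neg_self {a : F} : a = -a ↔ a = 0 :=
  ⟨fun h => (mul_eq_zero.1 (show 2 * a = 0 by linear_combination h)).resolve_left two_ne_zero,
    fun h => by simp [h]⟩

theorem neg_eq_self' {a : F} : -a = a ↔ a = 0 := eq_comm.trans eq_neg_self

theorem prime {x y : ℍ[F]} (h1 : x * y = 0) (h2 : x * ui.val * y = 0) (h3 : x * uj.val * y = 0)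
    (h4 : x * uk.val * y = 0) : x = 0 ∨ y = 0 := by
  refine or_iff_not_imp_left.2 fun hx => ?_
  have key : ∀ c, (y * c).re = 0 := fun c => by
    have e : ∀ w : ℍ[F], w - ui.val * w * ui.val - uj.val * w * uj.val - uk.val * w * uk.val =
      ((2 * 2 * w.re : F) : ℍ[F]) := fun w => by ext <;> simp [ui, uj, uk] <;> ring
    have := congrArg (x * ·) (e (y * c))
    simp only [mul_sub, ← mul_assoc, h1, h2, h3, h4, zero_mul, sub_zero, mul_coe_eq_smul] at this
    simpa [hx, NeZero.ne (2 : F), -re_mul] using this.symm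
  ext
  · simpa using key 1
  · simpa [ui] using key ui.val
  · simpa [uj] using key uj.val
  · simpa [uk] using key uk.val

theorem ne_neg (x : U1 F) : x ≠ -x := fun h => by
  have : (1 : U1 F) = -1 := mul_right_cancel (b := x) (by simpa using h)
  simpa [eq_neg_self] using congrArg (fun x : U1 F => x.val.re) this

theorem neg_ne (x : U1 F) : -x ≠ x := (ne_neg x).symm

theorem comm_i {x : U1 F} (h : x * ui = ui * x) : x.val.imJ = 0 ∧ x.val.imK = 0 := by
  have := Quaternion.ext_iff.1 (congrArg Subtype.val h)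
  simp [ui, eq_neg_self, neg_eq_self'] at this
  tauto

theorem comm_j {x : U1 F} (h : x * uj = uj * x) : x.val.imI = 0 ∧ x.val.imK = 0 := by
  have := Quaternion.ext_iff.1 (congrArg Subtype.val h)
  simp [uj, eq_neg_self, neg_eq_self'] at this
  tauto

theorem comm_k {x : U1 F} (h : x * uk = uk * x) : x.val.imI = 0 ∧ x.val.imJ = 0 := by
  have := Quaternion.ext_iff.1 (congrArg Subtype.val h)
  simp [uk, eq_neg_self, neg_eq_self'] at this
  tauto

theorem mem_Q8 {x : U1 F} (h : x ∈ Q8 F) : x = 1 ∨ x = -1 ∨ x = ui ∨ x = -ui ∨ x = uj ∨ x = -uj ∨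
    x = uk ∨ x = -uk := by
  obtain ⟨h1 | h1, h2 | h2⟩ := h <;> have h3 := Quaternion.ext_iff.1 (congrArg Subtype.val h1) <;>
    have h4 := Quaternion.ext_iff.1 (congrArg Subtype.val h2) <;>
    simp [ui, uj, eq_neg_self, neg_eq_self'] at h3 h4
  · have := eq_or_neg (x := x) (v := 1) (a := x.val.re) (by ext <;> simp [h3, h4])
    tauto
  · have := eq_or_neg (x := x) (v := ui) (a := x.val.imI) (by ext <;> simp [h3, h4, ui])
    tauto
  · have := eq_or_neg (x := x) (v := uj) (a := x.val.imJ) (by ext <;> simp [h3, h4, uj])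
    tauto
  · have := eq_or_neg (x := x) (v := uk) (a := x.val.imK) (by ext <;> simp [h3, h4, uk])
    tauto

theorem pow_four {x : U1 F} (h : x ∈ Q8 F) : x ^ 2 ^ 2 = 1 := by
  have : x * x * (x * x) = 1 := by
    rcases mem_Q8 h with rfl | rfl | rfl | rfl | rfl | rfl | rfl | rfl <;> simp
  rwa [show 2 ^ 2 = 2 + 2 by rfl, pow_add, pow_two]

theorem isPGroup_Q8 : IsPGroup 2 (Q8 F) := fun x => ⟨2, Subtype.ext (pow_four x.2)⟩

theorem sc_of_mem {x y : U1 F} (hx : x ∈ Q8 F) (hy : y ∈ Q8 F) : SC x y := by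
  have h1 : ui ∈ scG x := hx.1.symm
  have h2 : uj ∈ scG x := hx.2.symm
  have h3 : uk ∈ scG x := ij (F := F) ▸ mul_mem h1 h2
  have h4 : -1 ∈ scG x := ii (F := F) ▸ mul_mem h1 h1
  refine SC.symm (show y ∈ scG x from ?_)
  rcases mem_Q8 hy with rfl | rfl | rfl | rfl | rfl | rfl | rfl | rfl <;>
    simp only [neg_mem_iff' h4, one_mem, *]

theorem eq_of_sq {w : U1 F} (h : w * w = 1) : w = 1 ∨ w = -1 := by
  have h1 := Quaternion.ext_iff.1 (congrArg Subtype.val (inv_eq_of_mul_eq_one_right h))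
  simp [← Unitary.star_eq_inv, neg_eq_self'] at h1
  exact eq_or_neg (a := w.val.re) (by ext <;> simp [h1])

theorem eq_of_comm {y v : U1 F} (hy : y * y = -1) (hv : v * v = -1) (h : y * v = v * y) :
    y = v ∨ y = -v := by
  have : y * v⁻¹ * (y * v⁻¹) = 1 := by
    rw [← pow_two, (Commute.inv_right h).mul_pow, inv_pow, pow_two, pow_two, hy, hv, mul_inv_cancel]
  exact (eq_of_sq this).imp mul_inv_eq_one.1 fun e => by rw [mul_inv_eq_iff_eq_mul.1 e]; simp

omit [NeZero (2 : F)] in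
theorem SC.comm {x v : U1 F} (h : SC x v) (ho : Odd (orderOf x)) : x * v = v * x :=
  comm_of_odd ho (by
    rcases h with h | h <;> rw [pow_two, mul_assoc, h] <;> simp [← mul_assoc, h])

theorem gen {K : Subgroup (U1 F)} (h1 : -1 ∈ K) {v w : U1 F} (hv : v ∈ Q8 F) (hw : w ∈ Q8 F)
    (h : v * w = -(w * v)) (h2 : v ∈ K) (h3 : w ∈ K) : ui ∈ K ∧ uj ∈ K := by
  have h4 := mul_mem h2 h3
  rcases mem_Q8 hv with rfl | rfl | rfl | rfl | rfl | rfl | rfl | rfl <;>
    rcases mem_Q8 hw with rfl | rfl | rfl | rfl | rfl | rfl | rfl | rfl <;>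
    simp [neg_mem_iff' h1, ne_neg, neg_ne] at h h2 h3 h4 <;> exact ⟨‹_›, ‹_›⟩

/-- an element of order three -/
def th : U1 F := ⟨mkQ (-2⁻¹) (-2⁻¹) (-2⁻¹) (-2⁻¹),
   mem_U1.2 (by simp [normSq_def']; field_simp; ring)⟩

theorem th_i : (th * ui * th⁻¹ : U1 F) = uj :=
  mul_inv_eq_iff_eq_mul.2 (Subtype.ext (by ext <;> simp [th, ui, uj]))
theorem th_j : (th * uj * th⁻¹ : U1 F) = uk :=
  mul_inv_eq_iff_eq_mul.2 (Subtype.ext (by ext <;> simp [th, uk, uj]))
theorem th_k : (th * uk * th⁻¹ : U1 F) = ui :=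
  mul_inv_eq_iff_eq_mul.2 (Subtype.ext (by ext <;> simp [th, uk, ui]))
theorem th_i' : (th⁻¹ * ui * th : U1 F) = uk := by rw [← th_k]; group
theorem th_j' : (th⁻¹ * uj * th : U1 F) = ui := by rw [← th_i]; group
theorem th_k' : (th⁻¹ * uk * th : U1 F) = uj := by rw [← th_j]; group

theorem th_pow : (th : U1 F) ^ 3 = 1 :=
  Subtype.ext (by ext <;> simp [th, pow_succ] <;> field_simp <;> ring)

variable [Finite F]

theorem th_mem : th ∈ normalizer (Q8 F : Set (U1 F)) := mem_normalizer_fintype fun x hx => by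
  rcases mem_Q8 hx with rfl | rfl | rfl | rfl | rfl | rfl | rfl | rfl <;>
    simp [th_i, th_j, th_k, neg_mem_iff' neg_one_mem, i_mem, j_mem, k_mem]

theorem mem_of_sc (hQ : SylIn 2 (Q8 F) ⊤) {x : U1 F} (hx : x ∈ normalizer (Q8 F : Set (U1 F)))
    (h : SC x ui) : x ∈ Q8 F := by
  have h1 : x * uj * x⁻¹ * (x * ui * x⁻¹) = -(x * ui * x⁻¹ * (x * uj * x⁻¹)) := by
    rw [conj_mul, conj_mul]; simp
  have h2 : ∀ y, x * uj * x⁻¹ = y → x * uk * x⁻¹ = x * ui * x⁻¹ * y := fun y e => by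
    rw [← e, conj_mul, ij]
  have h3 : (x * uj * x⁻¹ = uk ∨ x * uj * x⁻¹ = -uk) → x ∈ Q8 F := fun e => by
    refine hQ.mem_of_mem_normalizer (k := 3) (mem_top x) ?_ hx
    have : x * x ∈ Q8 F := ⟨mul_mem h h, sc_conj.2 (by
      rw [mul_inv_rev, mul_assoc x x, mul_assoc x, ← mul_assoc _ x⁻¹, ← mul_assoc x]
      rcases e with e | e <;> rcases sc_conj.1 h with e' | e' <;> simp [e, h2 _ e, e'])⟩
    rw [show 2 ^ 3 = 2 * 2 ^ 2 by rfl, pow_mul, pow_two x, pow_four this]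
  rcases mem_Q8 ((mem_normalizer_iff.1 hx uj).1 j_mem) with e | e | e | e | e | e | e | e
  all_goals first
    | (refine ⟨h, sc_conj.2 ?_⟩; simp [e]; done)
    | (refine h3 ?_; simp [e]; done)
    | (rcases sc_conj.1 h with e' | e' <;> simp [e, e', ne_neg, neg_ne] at h1)

theorem mem_normalizer_Q8 (hQ : SylIn 2 (Q8 F) ⊤) {x : U1 F}
    (hx : x ∈ normalizer (Q8 F : Set (U1 F))) :
    x ∈ Q8 F ∨ th⁻¹ * x ∈ Q8 F ∨ th * x ∈ Q8 F := by
  have h1 : x * ui * x⁻¹ * (x * ui * x⁻¹) = -1 := by rw [conj_mul]; simp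
  have h2 : ∀ t, t * x * ui * (t * x)⁻¹ = t * (x * ui * x⁻¹) * t⁻¹ := fun t => by group
  rcases mem_Q8 ((mem_normalizer_iff.1 hx ui).1 i_mem) with e | e | e | e | e | e | e | e
  all_goals first
    | (refine Or.inl (mem_of_sc hQ hx (sc_conj.2 ?_)); simp [e]; done)
    | (refine Or.inr (Or.inl (mem_of_sc hQ (mul_mem (inv_mem th_mem) hx) (sc_conj.2 ?_)))
       rw [h2, e]; simp [th_j']; done)
    | (refine Or.inr (Or.inr (mem_of_sc hQ (mul_mem th_mem hx) (sc_conj.2 ?_)))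
       rw [h2, e]; simp [th_k]; done)
    | simp [e, ne_neg] at h1

theorem exists_pow_th (hQ : SylIn 2 (Q8 F) ⊤) {x : U1 F}
    (hx : x ∈ normalizer (Q8 F : Set (U1 F))) : ∃ q ∈ Q8 F, ∃ c : ℤ, x = th ^ c * q := by
  rcases mem_normalizer_Q8 hQ hx with h | h | h
  exacts [⟨_, h, 0, by simp⟩, ⟨_, h, 1, by simp⟩, ⟨_, h, -1, by simp⟩]

theorem comm_mem_Q8 (hQ : SylIn 2 (Q8 F) ⊤) {x y : U1 F}
    (hx : x ∈ normalizer (Q8 F : Set (U1 F))) (hy : y ∈ normalizer (Q8 F : Set (U1 F))) :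
    x * y * x⁻¹ * y⁻¹ ∈ Q8 F := by
  obtain ⟨q, hq, c, rfl⟩ := exists_pow_th hQ hx
  obtain ⟨r, hr, d, rfl⟩ := exists_pow_th hQ hy
  have key : ∀ (n : ℤ), ∀ s ∈ Q8 F, th ^ n * s * (th ^ n)⁻¹ ∈ Q8 F := fun n s hs =>
    (mem_normalizer_iff.1 (zpow_mem th_mem n) s).1 hs
  convert mul_mem (mul_mem (key c _ hq) (key (c + d) _ (mul_mem hr (inv_mem hq))))
    (key d _ (inv_mem hr)) using 1
  group

theorem normalizer_le {Q : Subgroup (U1 F)} (hQ : SylIn 2 Q ⊤) (h8 : Q8 F ≤ Q) (hne : ¬ Q ≤ Q8 F) :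
    normalizer (Q : Set (U1 F)) ≤ Q := by
  intro x hx
  obtain ⟨k, ho⟩ := exists_odd_orderOf_pow x
  refine hQ.mem_of_mem_normalizer (k := k) (mem_top x) ?_ hx
  have hf := pow_mem hx (2 ^ k)
  generalize x ^ 2 ^ k = f at ho hf
  have := normal_zpowers (u := (-1 : U1 F)) (by simp)
  let π := QuotientGroup.mk' (zpowers (-1 : U1 F))
  have hπ : ∀ a b, π a = π b ↔ b = a ∨ b = -a := fun a b => by
    rw [QuotientGroup.mk'_apply, QuotientGroup.mk'_apply, QuotientGroup.eq,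
      mem_zpowers_two (by simp), inv_mul_eq_one, inv_mul_eq_iff_eq_mul, eq_comm, mul_neg, mul_one]
  have : Nontrivial (Q.map π) := (nontrivial_iff_exists_ne_one _).2
    ⟨_, mem_map_of_mem π (h8 i_mem), fun h => by
      have h1 := ii (F := F)
      rcases (hπ 1 ui).1 h.symm with e | e <;> simp [e, ne_neg] at h1⟩
  obtain ⟨⟨⟨_, v, hv, rfl⟩, h1⟩, h2⟩ := @exists_ne _ (hQ.pgrp.map π).center_nontrivial 1
  have h3 : ∀ δ ∈ Q, SC δ v := fun δ hδ => (hπ _ _).1 (congrArg Subtype.val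
    (mem_center_iff.1 h1 ⟨_, mem_map_of_mem π hδ⟩)).symm
  have h4 : ∀ δ ∈ Q, SC δ (f * v * f⁻¹) := fun δ hδ => by
    have := sc_conj.1 (h3 _ ((mem_normalizer_iff.1 (inv_mem hf) δ).1 hδ))
    refine sc_conj.2 (this.imp (fun e => ?_) fun e => ?_)
    · conv_rhs => rw [← e]
      group
    · rw [← neg_mul, ← mul_neg, ← e]
      group
  have h5 : v ∈ Q8 F := ⟨(h3 _ (h8 i_mem)).symm, (h3 _ (h8 j_mem)).symm⟩
  have h6 : f * v * f⁻¹ ∈ Q8 F := ⟨(h4 _ (h8 i_mem)).symm, (h4 _ (h8 j_mem)).symm⟩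
  have h7 : v * v = -1 := by
    have : v ≠ 1 ∧ v ≠ -1 := not_or.1 fun h => h2 (Subtype.ext (Subtype.ext ((hπ 1 v).2 h).symm))
    rcases mem_Q8 h5 with rfl | rfl | rfl | rfl | rfl | rfl | rfl | rfl <;> simp at this ⊢
  rcases sc_of_mem h6 h5 with e | e
  · have h9 := (sc_conj.2 (eq_of_comm (by rw [conj_mul, h7]; simp) h7 e)).comm ho
    obtain ⟨w, hw, e⟩ : ∃ w ∈ Q8 F, w * f⁻¹ = f * w := by
      rw [← Unitary.star_eq_inv]
      rcases mem_Q8 h5 with rfl | rfl | rfl | rfl | rfl | rfl | rfl | rfl <;>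
        try simp only [mul_neg, neg_mul, neg_inj, neg_neg, mul_one, ne_neg] at h7 h9
      · exact ⟨uj, j_mem, Subtype.ext (by ext <;> simp [uj, comm_i h9])⟩
      · exact ⟨uj, j_mem, Subtype.ext (by ext <;> simp [uj, comm_i h9])⟩
      · exact ⟨ui, i_mem, Subtype.ext (by ext <;> simp [ui, comm_j h9])⟩
      · exact ⟨ui, i_mem, Subtype.ext (by ext <;> simp [ui, comm_j h9])⟩
      · exact ⟨ui, i_mem, Subtype.ext (by ext <;> simp [ui, comm_k h9])⟩
      · exact ⟨ui, i_mem, Subtype.ext (by ext <;> simp [ui, comm_k h9])⟩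
    have := mul_mem ((mem_normalizer_iff.1 hf w).1 (h8 hw)) (inv_mem (h8 hw))
    rw [mul_assoc f, e, ← mul_assoc, mul_inv_cancel_right] at this
    obtain ⟨l, hl⟩ := hQ.pgrp ⟨f, mem_of_sq_mem ho this⟩
    exact eq_one_of_odd_of_two ho (pow_orderOf_eq_one f) (congrArg Subtype.val hl)
  · refine absurd (fun δ hδ => ?_) hne
    have := gen (K := scG δ) (Or.inl (by simp)) h6 h5 e (h4 δ hδ).symm (h3 δ hδ).symm
    exact ⟨this.1.symm, this.2.symm⟩

theorem exists_odd_core {G : Type*} [Group G] [Finite G] (P : Sylow 2 G)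
    (h : normalizer (P : Set G) ≤ centralizer P) :
    ∃ N : Subgroup G, N.Normal ∧ Odd (Nat.card N) ∧ ∀ x, Odd (orderOf x) → x ∈ N := by
  refine ⟨(MonoidHom.transferSylow P h).ker, inferInstance, ?_, fun x hx => ?_⟩
  · rw [← (MonoidHom.ker_transferSylow_isComplement' P h).index_eq_card, ← Nat.not_even_iff_odd,
      even_iff_two_dvd]
    exact P.not_dvd_index
  · obtain ⟨k, hk⟩ := P.isPGroup' (MonoidHom.transferSylow P h x)
    exact eq_one_of_odd_of_two hx (by rw [← map_pow, pow_orderOf_eq_one, map_one]) hk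

theorem exists_odd_of_th (hQ : SylIn 2 (Q8 F) ⊤) {L : Subgroup (U1 F)} (h8 : Q8 F ≤ L)
    (ht : th ∉ L) : ∃ O : Subgroup L, O.Normal ∧ Odd (Nat.card O) ∧ ∀ x, Odd (orderOf x) → x ∈ O := by
  let u : L := ⟨-1, h8 neg_one_mem⟩
  have hu : ∀ g, g * u = u * g := fun g => Subtype.ext (by simp [u])
  have u2 : u * u = 1 := Subtype.ext (by simp [u])
  have := normal_zpowers hu
  obtain ⟨N, hn, h1, h2⟩ := exists_odd_core ((hQ.mono h8 le_top).toSylow.mapSurjective
    (QuotientGroup.mk'_surjective (zpowers u))) fun x hx => by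
      obtain ⟨x, rfl⟩ := QuotientGroup.mk'_surjective _ x
      have h3 := H77.mem_normalizer_of_map (H := (Q8 F).subgroupOf L)
        (by rw [QuotientGroup.ker_mk', zpowers_le]; exact neg_one_mem) hx
      rw [← subgroupOf_normalizer_eq h8] at h3
      have h4 : x.val ∈ Q8 F := by
        rcases mem_normalizer_Q8 hQ h3 with h | h | h
        · exact h
        · exact absurd (by simpa using mul_mem x.2 (inv_mem (h8 h))) ht
        · exact absurd (by simpa using mul_mem (h8 h) (inv_mem x.2)) ht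
      rintro _ ⟨y, hy, rfl⟩
      rw [← map_mul, ← map_mul, QuotientGroup.mk'_apply, QuotientGroup.mk'_apply, QuotientGroup.eq,
        mem_zpowers_two u2, inv_mul_eq_one, inv_mul_eq_iff_eq_mul]
      exact (sc_of_mem h4 hy).imp (fun e => Subtype.ext e.symm)
        fun e => Subtype.ext (by simpa [u] using e)
  obtain ⟨O, h3, h4, h5⟩ := exists_odd_lift hu u2 N h1
  exact ⟨O, h3, h4, fun x hx => mem_of_sq_mem hx (h5 x (h2 _
    (hx.of_dvd_nat (orderOf_map_dvd (QuotientGroup.mk' (zpowers u)) x))))⟩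

omit [Finite F] in
theorem exists_axis {a : U1 F} (ho : Odd (orderOf a)) (ha : a ≠ 1)
    (hi : ui * a * ui⁻¹ * a = a * (ui * a * ui⁻¹)) (hj : uj * a * uj⁻¹ * a = a * (uj * a * uj⁻¹)) :
    ∃ v : U1 F, (v = ui ∨ v = uj ∨ v = uk) ∧ ∀ y, y * a = a * y ↔ y * v = v * y := by
  have key : ∀ (v : U1 F) (c : F), c ≠ 0 → a.val = a.val.re • (1 : ℍ[F]) + c • v.val →
      ∀ y, y * a = a * y ↔ y * v = v * y := fun v c hc e y => by
    rw [Subtype.ext_iff, Subtype.ext_iff, Submonoid.coe_mul, Submonoid.coe_mul, Submonoid.coe_mul,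
      Submonoid.coe_mul, e]
    simp only [mul_add, add_mul, mul_smul_comm, smul_mul_assoc, mul_one, one_mul, add_right_inj]
    exact (smul_right_injective _ hc).eq_iff
  rw [← Unitary.star_eq_inv] at hi hj
  have h1 := Quaternion.ext_iff.1 (congrArg Subtype.val hi)
  have h2 := Quaternion.ext_iff.1 (congrArg Subtype.val hj)
  simp [ui, uj] at h1 h2
  have h4 : (2 * 2 : F) ≠ 0 := mul_ne_zero two_ne_zero two_ne_zero
  have e1 : a.val.imI * a.val.imJ = 0 := mul_left_cancel₀ h4 (by linear_combination h1.2)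
  have e2 : a.val.imI * a.val.imK = 0 := mul_left_cancel₀ h4 (by linear_combination -h1.1)
  have e3 : a.val.imJ * a.val.imK = 0 := mul_left_cancel₀ h4 (by linear_combination h2.1)
  by_cases hI : a.val.imI = 0
  · by_cases hJ : a.val.imJ = 0
    · refine ⟨uk, by simp, key _ a.val.imK (fun hK => ?_) (by ext <;> simp [uk, hI, hJ])⟩
      rcases eq_or_neg (x := a) (v := 1) (a := a.val.re) (by ext <;> simp [*]) with rfl | rfl
      · exact ha rfl
      · exact ha (eq_one_of_odd_of_two (k := 1) ho (pow_orderOf_eq_one _) (by simp))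
    · exact ⟨uj, by simp, key _ _ hJ (by ext <;> simp [uj, hI, by simpa [hJ] using e3])⟩
  · exact ⟨ui, by simp, key _ _ hI
      (by ext <;> simp [ui, by simpa [hI] using e1, by simpa [hI] using e2])⟩

theorem exists_axis_of_th (hQ : SylIn 2 (Q8 F) ⊤) {L : Subgroup (U1 F)} (h8 : Q8 F ≤ L)
    (ht : th ∉ L) : ∃ v : U1 F, (v = ui ∨ v = uj ∨ v = uk) ∧
      ∀ x ∈ L, Odd (orderOf x) → x * v = v * x := by
  obtain ⟨O, hn, h1, h2⟩ := exists_odd_of_th hQ h8 ht
  by_cases h0 : O ≤ ⊥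
  · refine ⟨ui, by simp, fun x hx ho => ?_⟩
    have := mem_bot.1 (h0 (h2 ⟨x, hx⟩ (by rwa [← Subgroup.orderOf_coe])))
    rw [show x = 1 from congrArg Subtype.val this, one_mul, mul_one]
  obtain ⟨B, hB, h3, h4, h5⟩ := exists_normal_comm O h1 ⊥ h0
  obtain ⟨a, ha, h6⟩ := SetLike.not_le_iff_exists.1 h4
  have h7 : ∀ x ∈ L, x * a * x⁻¹ * a = a * (x * a * x⁻¹) := fun x hx => by
    have := commutatorElement_eq_one_iff_mul_comm.1 (mem_bot.1
      (h5 (commutator_mem_commutator (hB.conj_mem a ha ⟨x, hx⟩) ha)))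
    exact congrArg Subtype.val this
  obtain ⟨v, hv, h9⟩ := exists_axis (a := (a : U1 F)) (by
    rw [Subgroup.orderOf_coe]; exact h1.of_dvd_nat (orderOf_dvd_natCard _ (h3 ha)))
    (fun e => h6 (mem_bot.2 (Subtype.ext e))) (h7 _ (h8 i_mem)) (h7 _ (h8 j_mem))
  refine ⟨v, hv, fun x hx ho => SC.comm (sc_conj.2 (eq_of_comm ?_ ?_ ((h9 _).1 ?_))) ho⟩
  · rw [conj_mul]
    rcases hv with rfl | rfl | rfl <;> simp
  · rcases hv with rfl | rfl | rfl <;> simp
  · have := (h9 _).1 (h7 _ (inv_mem hx))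
    rw [inv_inv] at this
    calc _ = x * (v * (x⁻¹ * a * x)) * x⁻¹ := by group
      _ = _ := by rw [← this]; group

theorem le_Q8 (hQ : SylIn 2 (Q8 F) ⊤) {A L : Subgroup (U1 F)} (h8 : Q8 F ≤ A) (hA : A ≤ L)
    (ht : th ∉ L) {t : U1 F} (h : t = th ∨ t = th⁻¹) (hA' : ∀ x ∈ A, t * x * t⁻¹ ∈ L) :
    A ≤ Q8 F := by
  obtain ⟨v, hv, h3⟩ := exists_axis_of_th hQ (h8.trans hA) ht
  refine (hQ.eq_of_le (fun x => ?_) h8 le_top).le
  obtain ⟨k, ho⟩ := exists_odd_orderOf_pow x.val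
  refine ⟨k, Subtype.ext ?_⟩
  have hx := pow_mem x.2 (2 ^ k)
  change x.val ^ 2 ^ k = 1
  generalize x.val ^ 2 ^ k = y at ho hx
  have h4 := h3 _ (hA' y hx) (by rwa [H9.orderOf_conj])
  have := gen (K := centralizer {y}) (v := v) (w := t⁻¹ * v * t)
    (mem_centralizer_singleton_iff.2 (by simp))
    (by rcases hv with rfl | rfl | rfl <;> simp [i_mem, j_mem, k_mem])
    (by rcases h with rfl | rfl <;> rcases hv with rfl | rfl | rfl <;>
      simp [th_i, th_j, th_k, th_i', th_j', th_k', i_mem, j_mem, k_mem])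
    (by rcases h with rfl | rfl <;> rcases hv with rfl | rfl | rfl <;>
      simp [th_i, th_j, th_k, th_i', th_j', th_k'])
    (mem_centralizer_singleton_iff.2 (h3 y (hA hx) ho).symm)
    (mem_centralizer_singleton_iff.2 (by
      calc _ = t⁻¹ * (v * (t * y * t⁻¹)) * t := by group
        _ = _ := by rw [← h4]; group))
  exact eq_one_of_odd_of_two ho (pow_orderOf_eq_one y) (pow_four
    ⟨Or.inl (mem_centralizer_singleton_iff.1 this.1).symm,
      Or.inl (mem_centralizer_singleton_iff.1 this.2).symm⟩)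

end H82.SpP
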