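import Mathlib
import Cfsg.Agent.Lib.SpPron.Quat

/-!
# Unitary groups over the quaternions: rank one calculus
-/

set_option autoImplicit false
set_option linter.unusedSectionVars false

namespace H82.SpP

open Subgroup H61 Cfsg Quaternion Matrix
open scoped commutatorElement

attribute [local simp] Unitary.coe_neg

variable {F : Type*} [Field F] {ι : Type*} [Fintype ι]

/-- the hermitian form -/
def ip (c d : ι → ℍ[F]) : ℍ[F] := ∑ i, star (c i) * d i

/-- right scalar multiplication -/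
def rs (c : ι → ℍ[F]) (a : ℍ[F]) : ι → ℍ[F] := fun i => c i * a

/-- rank one matrices -/
def E (c : ι → ℍ[F]) (a : ℍ[F]) (d : ι → ℍ[F]) : Matrix ι ι ℍ[F] :=
  Matrix.of fun i j => c i * a * star (d j)

section

variable (c d e g : ι → ℍ[F]) (a b : ℍ[F]) (X : Matrix ι ι ℍ[F])

theorem star_ip : star (ip c d) = ip d c := by simp [ip, star_sum]
@[simp] theorem ip_add : ip c (d + e) = ip c d + ip c e := by
  simp [ip, mul_add, Finset.sum_add_distrib]
@[simp] theorem add_ip : ip (d + e) c = ip d c + ip e c := by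
  simp [ip, add_mul, Finset.sum_add_distrib]
@[simp] theorem ip_neg : ip c (-d) = -ip c d := by simp [ip]
@[simp] theorem neg_ip : ip (-d) c = -ip d c := by simp [ip]
@[simp] theorem ip_rs : ip c (rs d a) = ip c d * a := by simp [ip, rs, Finset.sum_mul, mul_assoc]
@[simp] theorem rs_ip : ip (rs c a) d = star a * ip c d := by
  simp [ip, rs, Finset.mul_sum, mul_assoc]
@[simp] theorem ip_zero : ip c 0 = 0 := by simp [ip]
theorem mulVec_ip : ip (X *ᵥ c) d = ip c (star X *ᵥ d) := by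
  simp only [ip, mulVec, dotProduct, star_sum, Finset.sum_mul, Finset.mul_sum, star_mul,
    star_apply, mul_assoc]
  exact Finset.sum_comm

omit [Fintype ι] in
@[simp] theorem rs_rs : rs (rs c a) b = rs c (a * b) := funext fun _ => mul_assoc _ _ _
omit [Fintype ι] in
@[simp] theorem rs_one : rs c 1 = c := funext fun _ => mul_one _
omit [Fintype ι] in
@[simp] theorem rs_zero : rs c 0 = 0 := funext fun _ => mul_zero _
omit [Fintype ι] in
@[simp] theorem zero_rs : rs (0 : ι → ℍ[F]) a = 0 := funext fun _ => zero_mul _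
omit [Fintype ι] in
theorem rs_add : rs c (a + b) = rs c a + rs c b := funext fun _ => mul_add _ _ _
omit [Fintype ι] in
theorem rs_neg : rs c (-a) = -rs c a := funext fun _ => mul_neg _ _
theorem mulVec_rs : X *ᵥ rs c a = rs (X *ᵥ c) a := by
  funext i; simp [rs, mulVec, dotProduct, Finset.sum_mul, mul_assoc]

theorem E_mulVec : E c a d *ᵥ e = rs c (a * ip d e) := by
  funext i; simp [E, rs, ip, mulVec, dotProduct, Finset.mul_sum, mul_assoc]
theorem mul_E : X * E c a d = E (X *ᵥ c) a d := by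
  ext1 i j; simp [E, mul_apply, mulVec, dotProduct, Finset.sum_mul, mul_assoc]
omit [Fintype ι] in
theorem star_E : star (E c a d) = E d (star a) c := by ext1 i j; simp [E, mul_assoc]
theorem E_mul_star : E c a d * star X = E c a (X *ᵥ d) := by
  rw [← star_inj, star_mul, star_star, star_E, star_E, mul_E]
omit [Fintype ι] in
@[simp] theorem rs_E : E (rs c b) a d = E c (b * a) d := by ext1 i j; simp [E, rs, mul_assoc]
omit [Fintype ι] in
@[simp] theorem E_rs : E c a (rs d b) = E c (a * star b) d := by ext1 i j; simp [E, rs, mul_assoc]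
theorem E_mul : E c a d * E e b g = E c (a * ip d e * b) g := by rw [mul_E, E_mulVec, rs_E]
omit [Fintype ι] in
@[simp] theorem E_zero : E c 0 d = 0 := by ext1 i j; simp [E]
omit [Fintype ι] in
theorem E_add : E c (a + b) d = E c a d + E c b d := by ext1 i j; simp [E, mul_add, add_mul]
omit [Fintype ι] in
theorem add_E : E (c + e) a d = E c a d + E e a d := by ext1 i j; simp [E, add_mul]
omit [Fintype ι] in
theorem E_add' : E c a (d + e) = E c a d + E c a e := by ext1 i j; simp [E, mul_add]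

end

variable [DecidableEq ι]

/-- matrices supported on the span of two vectors -/
def B (c f : ι → ℍ[F]) (a b e d : ℍ[F]) : Matrix ι ι ℍ[F] :=
  1 + (E c a c + E c b f + E f e c + E f d f)

theorem B_mul {c f : ι → ℍ[F]} {γ : ℍ[F]} (h1 : ip c c = 1) (h2 : ip c f = 0) (h3 : ip f f = γ)
    (a b e d a' b' e' d' : ℍ[F]) : B c f a b e d * B c f a' b' e' d' =
      B c f (a + a' + a * a' + b * γ * e') (b + b' + a * b' + b * γ * d')
        (e + e' + e * a' + d * γ * e') (d + d' + e * b' + d * γ * d') := by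
  have h4 : ip f c = 0 := by rw [← star_ip, h2, star_zero]
  simp only [B, mul_add, add_mul, E_mul, h1, h2, h3, h4, mul_one, one_mul, mul_zero, zero_mul,
    E_zero, E_add]
  abel

theorem star_B (c f : ι → ℍ[F]) (a b e d : ℍ[F]) :
    star (B c f a b e d) = B c f (star a) (star e) (star b) (star d) := by
  simp only [B, star_add, star_one, star_E]
  abel

theorem B_zero (c f : ι → ℍ[F]) : B c f 0 0 0 0 = 1 := by simp [B]

theorem B_left (c f : ι → ℍ[F]) (a : ℍ[F]) : 1 + E c a c = B c f a 0 0 0 := by simp [B]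

theorem B_right (c f : ι → ℍ[F]) (a : ℍ[F]) : 1 + E f a f = B c f 0 0 0 a := by simp [B]

theorem B_add (c f : ι → ℍ[F]) (x y a : ℍ[F]) : 1 + E (rs c x + rs f y) a (rs c x + rs f y) =
    B c f (x * a * star x) (x * a * star y) (y * a * star x) (y * a * star y) := by
  simp only [B, add_E, E_add', rs_E, E_rs, mul_assoc]
  abel

/-- the unitary group -/
abbrev UM (ι F : Type*) [Field F] [Fintype ι] [DecidableEq ι] := unitary (Matrix ι ι ℍ[F])

theorem ip_unit (h : UM ι F) (c d : ι → ℍ[F]) : ip (h.val *ᵥ c) (h.val *ᵥ d) = ip c d := by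
  rw [mulVec_ip, mulVec_mulVec, h.2.1, one_mulVec]

theorem conj_E (h : UM ι F) (c d : ι → ℍ[F]) (a : ℍ[F]) :
    h.val * (1 + E c a d) * star h.val = 1 + E (h.val *ᵥ c) a (h.val *ᵥ d) := by
  rw [mul_add, add_mul, mul_one, h.2.2, mul_E, E_mul_star]

theorem R_mul {c : ι → ℍ[F]} (hc : ip c c = 1) (a b : ℍ[F]) :
    (1 + E c (a - 1) c) * (1 + E c (b - 1) c) = 1 + E c (a * b - 1) c := by
  rw [B_left c 0, B_left c 0, B_left c 0, B_mul hc (ip_zero _) (ip_zero _)]
  congr 1 <;> noncomm_ring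

/-- the fundamental subgroup attached to a unit vector -/
def Ru (c : ι → ℍ[F]) (hc : ip c c = 1) : U1 F →* UM ι F where
  toFun a := ⟨1 + E c (a.val - 1) c, by
    rw [Unitary.mem_iff, star_add, star_one, star_E, star_sub, star_one, R_mul hc, R_mul hc, a.2.1,
      a.2.2]
    simp⟩
  map_one' := Subtype.ext (by simp)
  map_mul' a b := Subtype.ext (R_mul hc _ _).symm

theorem Ru_val {c : ι → ℍ[F]} (hc : ip c c = 1) (a : U1 F) :
    (Ru c hc a).val = 1 + E c (a.val - 1) c := rfl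

theorem Ru_neg {c : ι → ℍ[F]} (hc : ip c c = 1) : (Ru c hc (-1)).val = 1 + E c (-2) c := by
  rw [Ru_val]; congr 2; simp; norm_num

theorem Ru_mulVec {c : ι → ℍ[F]} (hc : ip c c = 1) (a : U1 F) (v : ι → ℍ[F]) :
    (Ru c hc a).val *ᵥ v = v + rs c ((a.val - 1) * ip c v) := by
  rw [Ru_val, add_mulVec, one_mulVec, E_mulVec]

theorem conj_Ru (h : UM ι F) {c : ι → ℍ[F]} (hc : ip c c = 1) (a : U1 F) :
    h * Ru c hc a * h⁻¹ = Ru (h.val *ᵥ c) ((ip_unit h c c).trans hc) a :=
  Subtype.ext (conj_E h c c _)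

theorem Ru_rs {c : ι → ℍ[F]} (hc : ip c c = 1) (x a : U1 F) (h : ip (rs c x) (rs c x) = 1) :
    Ru (rs c x) h a = Ru c hc (x * a * x⁻¹) := Subtype.ext (by
  rw [Ru_val, Ru_val, rs_E, E_rs, mul_sub, sub_mul, mul_one, x.2.2]; rfl)

theorem Ru_injective {c : ι → ℍ[F]} (hc : ip c c = 1) : Function.Injective (Ru c hc) :=
  fun a b h => Subtype.ext (by
    simpa [Ru_mulVec, hc] using congrArg (fun x : UM ι F => ip c (x.val *ᵥ c)) h)

/-- a subgroup of the unitary group as a set of matrices -/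
def Hm (H : Subgroup (UM ι F)) : Submonoid (Matrix ι ι ℍ[F]) :=
  H.toSubmonoid.map (unitary _).subtype

variable {H : Subgroup (UM ι F)}

theorem mem_Hm {h : UM ι F} : h.val ∈ Hm H ↔ h ∈ H :=
  ⟨fun ⟨_, h1, h2⟩ => Subtype.ext h2 ▸ h1, fun h1 => ⟨h, h1, rfl⟩⟩

theorem star_mem_Hm {X : Matrix ι ι ℍ[F]} (h : X ∈ Hm H) : star X ∈ Hm H := by
  obtain ⟨x, hx, rfl⟩ := h
  exact ⟨x⁻¹, H.inv_mem hx, rfl⟩

theorem mem_of_mul_Hm {X Y : Matrix ι ι ℍ[F]} (h : X ∈ Hm H) (h' : Y * X ∈ Hm H) : Y ∈ Hm H := by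
  have := mul_mem h' (star_mem_Hm h)
  obtain ⟨x, hx, rfl⟩ := h
  rwa [mul_assoc, Submonoid.subtype_apply, x.2.2, mul_one] at this

/-- unit vectors whose fundamental subgroup meets `H` in the quaternion group -/
def Om (H : Subgroup (UM ι F)) (c : ι → ℍ[F]) : Prop := ∃ hc, H.comap (Ru c hc) = Q8 F

theorem Om.unit {c : ι → ℍ[F]} (h : Om H c) : ip c c = 1 := h.1

theorem Om.mem_iff {c : ι → ℍ[F]} (h : Om H c) {a : U1 F} : Ru c h.unit a ∈ H ↔ a ∈ Q8 F :=
  h.2 ▸ Iff.rfl

theorem Om.act {c : ι → ℍ[F]} (h : Om H c) {x : UM ι F} (hx : x ∈ H) : Om H (x.val *ᵥ c) :=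
  ⟨(ip_unit x c c).trans h.unit, Subgroup.ext fun a => by
    rw [mem_comap, ← conj_Ru x h.unit, mul_mem_cancel_right (inv_mem hx), mul_mem_cancel_left hx,
      h.mem_iff]⟩

theorem heis {c f : ι → ℍ[F]} (hc : Om H c) (h2 : ip c f = 0) (h3 : ip f f = 0) {x y : ℍ[F]}
    (h : B c f 0 (-star x) x y ∈ Hm H) {b : U1 F} (hb : b ∈ Q8 F) :
    1 + E (rs f x) (star b.val - b) (rs f x) ∈ Hm H := by
  have h4 := mem_Hm.2 (hc.mem_iff.2 hb)
  have h5 := mul_mem (mul_mem h4 h) (star_mem_Hm h4)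
  rw [Ru_val, B_left c f, star_B, B_mul hc.unit h2 h3, B_mul hc.unit h2 h3] at h5
  refine mem_of_mul_Hm (mul_mem h5 h) ?_
  convert mul_mem h h5 using 1
  rw [rs_E, E_rs, B_right c]
  simp only [B_mul hc.unit h2 h3]
  congr 1 <;> simp [mul_sub, sub_mul, b.2.2] <;> noncomm_ring

variable [NeZero (2 : F)]

/-- `i`, `j` or `k` -/
def Pu (b : U1 F) : Prop := b = ui ∨ b = uj ∨ b = uk

theorem Pu.mem {b : U1 F} (h : Pu b) : b ∈ Q8 F := by
  rcases h with rfl | rfl | rfl
  exacts [i_mem, j_mem, k_mem]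

theorem Pu.star {b : U1 F} (h : Pu b) : star b.val = -b.val := by
  rcases h with rfl | rfl | rfl <;> ext <;> simp [ui, uj, uk]

theorem heis' {c f : ι → ℍ[F]} (hc : Om H c) (h2 : ip c f = 0) (h3 : ip f f = 0) {x y : ℍ[F]}
    (h : B c f 0 (-star x) x y ∈ Hm H) (b : U1 F) (hb : Pu b) :
    1 + E (rs f x) ((-2 : F) • b.val) (rs f x) ∈ Hm H := by
  convert heis hc h2 h3 h hb.mem using 3
  rw [hb.star, neg_smul, two_smul]
  abel

theorem single_ip (k : ι) (v : ι → ℍ[F]) : ip (Pi.single k 1) v = v k := by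
  rw [ip, Finset.sum_eq_single k] <;> simp +contextual

theorem strip (hΩ : ∀ k, Om H (Pi.single k 1)) (n : ℕ) : ∀ (g : ι → ℍ[F]) (s : F), s ≠ 0 →
    (Function.support g).ncard < n → (∀ l m, g l * star (g m) = 0) →
    (∀ b, Pu b → 1 + E g (s • b.val) g ∈ Hm H) → g = 0 := by
  induction n with
  | zero => exact fun _ _ _ h => absurd h (Nat.not_lt_zero _)
  | succ n ih =>
  intro g s hs hn h0 hg
  funext k
  obtain ⟨f, hf, e⟩ : ∃ f : ι → ℍ[F], f = Function.update g k 0 ∧
      g = rs (Pi.single k 1) (g k) + rs f 1 := ⟨_, rfl, funext fun l => by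
    by_cases h : l = k
    · subst h; simp [rs]
    · simp [rs, h]⟩
  by_contra hk
  have h1 : ∀ l, f l = 0 ∨ f l = g l := fun l => by
    by_cases h : l = k <;> simp [hf, h]
  have h2 : ip (Pi.single k 1) f = 0 := by simp [single_ip, hf]
  have h5 : ∀ l, star (g l) * g l = 0 := fun l => by rw [star_comm_self, h0]
  have h3 : ip f f = 0 := Finset.sum_eq_zero fun l _ => by
    rcases h1 l with h | h <;> simp [h, h5]
  have h4 := h0 k k
  replace h5 := h5 k
  have h4' : ∀ l, f l * star (g k) = 0 := fun l => by rcases h1 l with h | h <;> simp [h, h0]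
  have hc := hΩ k
  have hz := mem_Hm.2 (hc.mem_iff.2 neg_one_mem)
  rw [Ru_neg, B_left _ f] at hz
  generalize g k = δ at hk h4 h4' h5 e
  have h6 : ∀ b, Pu b → ∀ l, f l * b.val * star δ = 0 := fun b hb l => by
    have h7 := hg b hb
    rw [e, B_add] at h7
    have h8 := mul_mem h7 (mul_mem (mul_mem hz (star_mem_Hm h7)) hz)
    have h9 : B (Pi.single k 1) f 0 (-star ((2 * s) • (b.val * star δ))) ((2 * s) • (b.val * star δ))
        0 ∈ Hm H := by
      convert h8 using 1
      simp only [star_B, B_mul hc.unit h2 h3]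
      have h5' : ∀ x, star δ * (δ * x) = 0 := fun x => by rw [← mul_assoc, h5, zero_mul]
      congr 1 <;> simp [hb.star, mul_assoc, mul_add, add_mul, h5', ← one_add_one_eq_two,
        add_smul] <;> abel
    have := ih _ _ (neg_ne_zero.2 two_ne_zero) ?_ (fun l m => ?_) (heis' hc h2 h3 h9)
    · simpa [rs, hs, NeZero.ne (2 : F), mul_assoc] using congrFun this l
    · refine lt_of_lt_of_le (Set.ncard_lt_ncard ⟨fun l hl => ?_, fun h => ?_⟩) (Nat.le_of_lt_succ hn)
      · rcases h1 l with h | h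
        · simp [rs, h] at hl
        · exact fun h' => hl (by simp [rs, h, h'])
      · refine h (show k ∈ _ from fun h' => hk ?_) (by simp [rs, hf])
        simpa [rs, hf] using (congrFun e k).symm.trans h'
    · have h5' : ∀ x, star δ * (δ * x) = 0 := fun x => by rw [← mul_assoc, h5, zero_mul]
      simp [rs, mul_assoc, h5']
  have h7 : f = 0 := funext fun l => (prime (h4' l)
    (h6 _ (Or.inl rfl) l) (h6 _ (Or.inr (Or.inl rfl)) l)
    (h6 _ (Or.inr (Or.inr rfl)) l)).resolve_right (star_ne_zero.2 hk)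
  have h8 : ∀ b, Pu b → δ * b.val * star δ = 0 := fun b hb => by
    obtain ⟨x, hx, h9⟩ := hg b hb
    let w : U1 F := ⟨1 + δ * s • b.val * star δ, by
      have h5' : ∀ x, star δ * (δ * x) = 0 := fun x => by rw [← mul_assoc, h5, zero_mul]
      simp [Unitary.mem_iff, hb.star, mul_add, add_mul, mul_assoc, h5']⟩
    have h10 : w ∈ Q8 F := hc.mem_iff.1 (mem_Hm.1 (by
      convert hg b hb using 1
      rw [Ru_val, e, h7]
      simp [w, mul_assoc]))
    have h11 : w.val.re = 1 := by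
      rcases hb with rfl | rfl | rfl <;> simp [w, ui, uj, uk, hs] <;> ring
    have h12 : w = 1 := by
      rcases mem_Q8 h10 with h | h | h | h | h | h | h | h <;> rw [h] at h11 ⊢ <;>
        simp [ui, uj, uk, neg_eq_self'] at h11
    simpa [w, hs] using congrArg Subtype.val h12
  exact hk ((prime h4 (h8 _ (Or.inl rfl)) (h8 _ (Or.inr (Or.inl rfl)))
    (h8 _ (Or.inr (Or.inr rfl)))).elim id star_eq_zero.1)

/-- the root elements along an isotropic vector -/
def TW (H : Subgroup (UM ι F)) {g : ι → ℍ[F]} (hg : ip g g = 0) : AddSubgroup ℍ[F] where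
  carrier := {a | star a = -a ∧ 1 + E g a g ∈ Hm H}
  zero_mem' := ⟨by simp, by simp⟩
  add_mem' := fun {a b} ha hb => ⟨by rw [star_add, ha.1, hb.1, neg_add], by
    convert mul_mem ha.2 hb.2 using 1
    simp only [mul_add, add_mul, E_mul, hg, E_add, mul_one, one_mul, mul_zero, zero_mul, E_zero]
    abel⟩
  neg_mem' := fun {a} ha => ⟨by rw [star_neg, ha.1], by
    simpa [star_E, ha.1] using star_mem_Hm ha.2⟩

variable [Finite F]

theorem exists_sq_add : ∃ α β : ℤ, (α : F) ^ 2 + (β : F) ^ 2 + 1 = 0 := by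
  obtain ⟨p, hp⟩ := CharP.exists F
  have : NeZero p := ⟨(CharP.char_is_prime F p).ne_zero⟩
  obtain ⟨a, b, h⟩ := CharP.sq_add_sq F p (-1)
  exact ⟨a, b, by push_cast at h ⊢; linear_combination h⟩

theorem heis_zero (hΩ : ∀ k, Om H (Pi.single k 1)) {c f : ι → ℍ[F]} (hc : Om H c)
    (h2 : ip c f = 0) (h3 : ip f f = 0) {x y : ℍ[F]} (h : B c f 0 (-star x) x y ∈ Hm H) :
    rs f x = 0 := by
  have hg : ip (rs f x) (rs f x) = 0 := by simp [h3]
  have h4 : ∀ b, Pu b → (-2 : F) • b.val ∈ TW H hg := fun b hb =>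
    ⟨by simp [hb.star], heis' hc h2 h3 h b hb⟩
  generalize rs f x = g at hg h4
  have key : ∀ α β : ℤ, (α : F) ^ 2 + (β : F) ^ 2 + 1 = 0 → rs g (mkQ 0 α β 1) = 0 := by
    intro α β e
    have h5 := add_mem (add_mem (zsmul_mem (h4 _ (Or.inl rfl)) α)
      (zsmul_mem (h4 _ (Or.inr (Or.inl rfl))) β)) (h4 _ (Or.inr (Or.inr rfl)))
    refine strip hΩ _ _ 1 one_ne_zero (Nat.lt_succ_self _) (fun l m => ?_) fun b hb => ?_
    · have : mkQ 0 (α : F) β 1 * star (mkQ 0 (α : F) β 1) = 0 := by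
        ext <;> simp <;> first | ring1 | linear_combination e
      simp only [rs, star_mul, mul_assoc]
      rw [← mul_assoc (mkQ _ _ _ _), this, zero_mul, mul_zero]
    · rw [rs_E, E_rs]
      rcases hb with rfl | rfl | rfl
      · convert (zsmul_mem h5 (-α)).2 using 3
        ext <;> simp [ui, uj, uk] <;>
          first | ring1 | linear_combination e | linear_combination -e
      · convert (zsmul_mem h5 (-β)).2 using 3
        ext <;> simp [ui, uj, uk] <;>
          first | ring1 | linear_combination e | linear_combination -e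
      · convert (neg_mem h5).2 using 3
        ext <;> simp [ui, uj, uk] <;>
          first | ring1 | linear_combination e | linear_combination -e
  obtain ⟨α, β, e⟩ := exists_sq_add (F := F)
  have h5 : rs g (mkQ (0 : F) α β 1 + mkQ (0 : F) (-α : ℤ) (-β : ℤ) 1) = 0 := by
    rw [rs_add, key α β e, key _ _ (by simpa using e), add_zero]
  have h6 : (mkQ (0 : F) α β 1 + mkQ (0 : F) (-α : ℤ) (-β : ℤ) 1) * mkQ 0 0 0 (-2⁻¹) = 1 := by
    ext <;> simp
    field_simp
    ring
  rw [← rs_one g, ← h6, ← rs_rs, h5, zero_rs]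

end H82.SpP
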