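import Mathlib
import Cfsg.Agent.Lib.SpPron.Vec

/-!
# Fundamental subgroups meeting `H` in quaternion groups are equal or orthogonal
-/

set_option autoImplicit false
set_option linter.unusedSectionVars false

namespace H82.SpP

open Subgroup H61 Cfsg Quaternion Matrix
open scoped commutatorElement

attribute [local simp] Unitary.coe_neg

variable {F : Type*} [Field F] {ι : Type*} [Fintype ι] [DecidableEq ι] {H : Subgroup (UM ι F)}
  [NeZero (2 : F)] [Finite F] {c d : ι → ℍ[F]}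

instance finiteUM : Finite (UM ι F) := inferInstance

@[simp] theorem re_two : (2 : ℍ[F]).re = 2 := rfl
@[simp] theorem imI_two : (2 : ℍ[F]).imI = 0 := rfl
@[simp] theorem imJ_two : (2 : ℍ[F]).imJ = 0 := rfl
@[simp] theorem imK_two : (2 : ℍ[F]).imK = 0 := rfl

theorem two_cancel {x : ℍ[F]} (h : x + x = 0) : x = 0 := by
  rwa [← two_smul F, smul_eq_zero_iff_right (NeZero.ne (2 : F))] at h

theorem decomp (hc : ip c c = 1) (hd : ip d d = 1) : ∃ f, ip c f = 0 ∧
    ip f f = ((1 - normSq (ip c d) : F) : ℍ[F]) ∧ d = rs c (ip c d) + rs f 1 := by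
  refine ⟨d + rs c (-ip c d), by simp [hc], ?_, by simp [rs_neg]⟩
  simp [hc, hd, ← star_ip c d, star_mul_self, sub_eq_add_neg]

theorem Ru_neg_mulVec (hd : ip d d = 1) (v : ι → ℍ[F]) :
    (Ru d hd (-1)).val *ᵥ v = v + rs d (-2 * ip d v) := by
  rw [Ru_neg, add_mulVec, one_mulVec, E_mulVec]

theorem ip_Ru_neg (hc : ip c c = 1) (hd : ip d d = 1) :
    ip c ((Ru d hd (-1)).val *ᵥ c) = ((1 - 2 * normSq (ip c d) : F) : ℍ[F]) := by
  rw [Ru_neg_mulVec, ip_add, ip_rs, hc, ← star_ip c d]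
  simp [two_mul, mul_add, self_mul_star, sub_eq_add_neg]

theorem Ru_neg_self (hc : ip c c = 1) : (Ru c hc (-1)).val *ᵥ c = -c := by
  rw [Ru_neg_mulVec, hc]
  funext i
  simp [rs, mul_two]

theorem eq_of_norm_one (hΩ : ∀ k, Om H (Pi.single k 1)) (hc : Om H c) (hd : Om H d)
    (h : normSq (ip c d) = 1) : d = rs c (ip c d) := by
  obtain ⟨f, h2, h3, e⟩ := decomp hc.unit hd.unit
  rw [h, sub_self, Quaternion.coe_zero] at h3
  have h4 := mem_Hm.2 (mul_mem (hc.mem_iff.2 neg_one_mem) (hd.mem_iff.2 neg_one_mem))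
  rw [Submonoid.coe_mul, Ru_neg, Ru_neg, B_left c f] at h4
  have h5 := (mem_U1.2 h).2
  have h6 := (mem_U1.2 h).1
  generalize ip c d = μ at e h5 h6
  rw [e, B_add, B_mul hc.unit h2 h3] at h4
  have h7 := heis_zero hΩ hc h2 h3 (x := -(star μ + star μ)) (y := -2) (by
    convert h4 using 2 <;> simp [← one_add_one_eq_two, mul_add, add_mul, h5] <;> abel)
  have h8 : f = 0 := funext fun i => two_cancel (by
    simpa [rs, mul_assoc, add_mul, mul_add, h6, -neg_add_rev] using congrArg (· i * μ) h7)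
  rw [e, h8, zero_rs, add_zero]

theorem Ru_eq_of_norm_one (hΩ : ∀ k, Om H (Pi.single k 1)) (hc : Om H c) (hd : Om H d)
    (h : normSq (ip c d) = 1) : Ru d hd.unit (-1) = Ru c hc.unit (-1) := Subtype.ext (by
  rw [Ru_neg, Ru_neg, eq_of_norm_one hΩ hc hd h, rs_E, E_rs]
  simp [← one_add_one_eq_two, mul_add, add_mul, (mem_U1.2 h).2])

theorem eq_zero_of_norm_zero (hΩ : ∀ k, Om H (Pi.single k 1)) (hc : Om H c) (hd : Om H d)
    (h : normSq (ip c d) = 0) : ip c d = 0 := by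
  have h1 := ip_Ru_neg hc.unit hd.unit
  rw [h, mul_zero, sub_zero, Quaternion.coe_one] at h1
  have h2 := eq_of_norm_one hΩ hc (hc.act (hd.mem_iff.2 neg_one_mem)) (by rw [h1, map_one])
  rw [h1, rs_one, Ru_neg_mulVec, add_eq_left] at h2
  refine two_cancel ?_
  simpa [hd.unit, two_mul, star_ip, -neg_add_rev] using congrArg (fun v => star (ip d v)) h2

theorem commute_Ru {u : UM ι F} (hd : ip d d = 1) (h : u.val *ᵥ d = -d) (a : U1 F) :
    Ru d hd a * u = u * Ru d hd a := by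
  rw [eq_comm, ← mul_inv_eq_iff_eq_mul, conj_Ru]
  refine Subtype.ext ?_
  rw [Ru_val, Ru_val, h, ← rs_one d, ← rs_neg, rs_E, E_rs]
  simp

/-- the stabiliser of a vector -/
def stab (c : ι → ℍ[F]) : Subgroup (UM ι F) where
  carrier := {x | x.val *ᵥ c = c}
  one_mem' := one_mulVec c
  mul_mem' := fun {a b} ha hb => by
    change (a.val * b.val) *ᵥ c = c
    rw [← mulVec_mulVec, hb, ha]
  inv_mem' := fun {a} ha => by
    change star a.val *ᵥ c = c
    conv_lhs => rw [← ha]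
    rw [mulVec_mulVec, a.2.1, one_mulVec]

theorem mem_stab (hc : Om H c) {x : UM ι F} (ho : Odd (orderOf x))
    (hz : x * Ru c hc.unit (-1) = Ru c hc.unit (-1) * x)
    (h : ∀ b ∈ Q8 F, x * Ru c hc.unit b * x⁻¹ * (Ru c hc.unit b)⁻¹ ∈ H ∧
      Odd (orderOf (x * Ru c hc.unit b * x⁻¹ * (Ru c hc.unit b)⁻¹))) : x ∈ stab c := by
  have h1 := congrArg (fun y : UM ι F => y.val *ᵥ c) hz
  simp only [Submonoid.coe_mul, ← mulVec_mulVec, Ru_neg_self, Ru_neg_mulVec, mulVec_neg] at h1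
  have h2 : x.val *ᵥ c = rs c (ip c (x.val *ᵥ c)) := funext fun i => by
    have := congrFun h1 i
    simp only [rs, Pi.neg_apply, Pi.add_apply, neg_mul, two_mul, mul_neg, mul_add] at this ⊢
    refine sub_eq_zero.1 (two_cancel ?_)
    rw [← neg_eq_zero, ← sub_eq_zero.2 this]
    abel
  have h3 := (ip_unit x c c).trans hc.unit
  let y : U1 F := ⟨ip c (x.val *ᵥ c), mem_U1.2 (by
    rw [h2, rs_ip, ip_rs, hc.unit, one_mul, star_mul_self, ← Quaternion.coe_one] at h3
    exact Quaternion.coe_injective h3)⟩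
  have h4 : ∀ b ∈ Q8 F, y * b = b * y := fun b hb => by
    have h5 := h b hb
    rw [conj_Ru, show Ru _ _ b = Ru c hc.unit (y * b * y⁻¹) by
      rw [← Ru_rs hc.unit y b (h2 ▸ h3)]; congr 2, ← map_inv, ← map_mul, hc.mem_iff,
      orderOf_injective _ (Ru_injective _)] at h5
    have := eq_one_of_odd_of_two h5.2 (pow_orderOf_eq_one _) (pow_four h5.1)
    rwa [mul_inv_eq_one, mul_inv_eq_iff_eq_mul] at this
  refine mem_of_sq_mem ho (show (x.val * x.val) *ᵥ c = c from ?_)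
  have h5 : y * y = 1 := by
    rcases eq_or_neg (x := y) (v := 1) (a := y.val.re)
      (by ext <;> simp [comm_i (h4 _ i_mem), comm_j (h4 _ j_mem)]) with e | e <;> simp [e]
  replace h2 : x.val *ᵥ c = rs c y.val := h2
  rw [← mulVec_mulVec, h2, mulVec_rs, h2, rs_rs]
  exact (congrArg (rs c) (congrArg Subtype.val h5)).trans (rs_one c)

theorem norm_of_comm (hc : ip c c = 1) (hd : ip d d = 1)
    (h : ⁅Ru c hc (-1) * Ru d hd (-1), Ru c hc ui * (Ru c hc (-1) * Ru d hd (-1)) * (Ru c hc ui)⁻¹⁆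
      ∈ stab c) : normSq (ip c d) = 1 ∨ normSq (ip c d) = 0 := by
  have h1 : Ru c hc ui * (Ru c hc (-1) * Ru d hd (-1)) * (Ru c hc ui)⁻¹ =
      Ru c hc (-1) * Ru _ ((ip_unit (Ru c hc ui) d d).trans hd) (-1) := by
    rw [← conj_Ru _ hd, ← mul_assoc, ← mul_assoc, ← mul_assoc, ← map_mul, ← map_mul]
    simp
  rw [h1] at h
  have h2 : ∀ x y : UM ι F, ⁅x, y⁆ ∈ stab c → ip c ((x * y).val *ᵥ c) = ip c ((y * x).val *ᵥ c) :=
    fun x y h => by
      rw [show x * y = ⁅x, y⁆ * (y * x) by group, Submonoid.coe_mul, ← mulVec_mulVec,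
        ← ip_unit ⁅x, y⁆ c ((y * x).val *ᵥ c), h]
  have h3 := h2 _ _ h
  have h4 := star_ip c d
  simp only [Submonoid.coe_mul, ← mulVec_mulVec, Ru_mulVec, ip_add, add_ip, ip_rs,
    rs_ip, hc, hd, ← h4] at h3
  generalize ip c d = μ at h3
  have h6 := congrArg (fun x : ℍ[F] => x.imI) h3
  simp [ui] at h6
  have h7 : (2 : F) ^ 3 * ((normSq μ - 1) * normSq μ) = 0 := by
    rw [normSq_def']
    linear_combination -h6
  simpa [NeZero.ne (2 : F), sub_eq_zero] using h7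

theorem iso_aux (hΩ : ∀ k, Om H (Pi.single k 1))
    (h3 : ∀ c d, Om H c → Om H d → 2 * normSq (ip c d) ≠ 1) (hc : Om H c) {u : UM ι F}
    (uc : u.val *ᵥ c = -c)
    (hu : ∀ e (he : Om H e), u.val *ᵥ e = -e → ip c e = 0 →
      Ru e he.unit (-1) = Ru c hc.unit (-1) * u) (hd : Om H d) (ud : u.val *ᵥ d = -d)
    (h : Ru d hd.unit (-1) * Ru c hc.unit (-1) * (Ru d hd.unit (-1))⁻¹ = Ru c hc.unit (-1) ∨
      Ru d hd.unit (-1) * Ru c hc.unit (-1) * (Ru d hd.unit (-1))⁻¹ = Ru c hc.unit (-1) * u) :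
    Ru d hd.unit (-1) = Ru c hc.unit (-1) ∨ Ru d hd.unit (-1) = Ru c hc.unit (-1) * u := by
  have h1 := ip_Ru_neg hc.unit (hc.act (hd.mem_iff.2 neg_one_mem)).unit
  rw [ip_Ru_neg hc.unit hd.unit, normSq_coe, ← conj_Ru _ hc.unit] at h1
  rcases h with h | h <;> rw [h] at h1
  · rw [Ru_neg_self, ip_neg, hc.unit, ← Quaternion.coe_one, ← Quaternion.coe_neg,
      Quaternion.coe_inj] at h1
    have : (2 : F) ^ 3 * ((normSq (ip c d) - 1) * normSq (ip c d)) = 0 := by linear_combination h1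
    simp only [mul_eq_zero, sub_eq_zero, NeZero.ne ((2 : F) ^ 3), false_or] at this
    exact this.imp (Ru_eq_of_norm_one hΩ hc hd) fun h =>
      hu d hd ud (eq_zero_of_norm_zero hΩ hc hd h)
  · rw [Submonoid.coe_mul, ← mulVec_mulVec, uc, mulVec_neg, Ru_neg_self, neg_neg, hc.unit,
      ← Quaternion.coe_one, Quaternion.coe_inj] at h1
    have : 2 * (1 - 2 * normSq (ip c d)) ^ 2 = 0 := by linear_combination h1
    simp only [mul_eq_zero, NeZero.ne (2 : F), false_or, pow_eq_zero_iff two_ne_zero,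
      sub_eq_zero] at this
    exact absurd this.symm (h3 c d hc hd)

theorem norm_aux (hΩ : ∀ k, Om H (Pi.single k 1))
    (h3 : ∀ c d, Om H c → Om H d → 2 * normSq (ip c d) ≠ 1) (hc : Om H c) {u : UM ι F}
    (uu : u * u = 1) (uc : u.val *ᵥ c = -c) (zu : Ru c hc.unit (-1) ≠ u)
    (hu : ∀ e (he : Om H e), u.val *ᵥ e = -e → ip c e = 0 →
      Ru e he.unit (-1) = Ru c hc.unit (-1) * u) (hd : Om H d) (ud : u.val *ᵥ d = -d) :
    normSq (ip c d) = 1 ∨ normSq (ip c d) = 0 := by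
  let Y : Subgroup (UM ι F) := centralizer {u} ⊓ H ⊔ zpowers u
  have hY : ∀ y ∈ Y, ∃ h ∈ H, h * u = u * h ∧ (y = h ∨ y = h * u) := fun y hy => by
    have : y ∈ ((centralizer {u} ⊓ H ⊔ zpowers u : Subgroup _) : Set (UM ι F)) := hy
    rw [coe_mul_of_left_le_normalizer_right _ _ (fun x hx => mem_normalizer_fintype (by
      rintro _ ⟨k, rfl⟩
      exact ⟨k, by rw [← conj_zpow, mem_centralizer_singleton_iff.1 hx.1, mul_inv_cancel_right]⟩))]
      at this
    obtain ⟨h, hh, v, hv, rfl⟩ := this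
    refine ⟨h, hh.2, mem_centralizer_singleton_iff.1 hh.1, ?_⟩
    rcases (mem_zpowers_two uu).1 hv with rfl | rfl <;> simp
  have hR : ∀ e (he : Om H e), u.val *ᵥ e = -e → ∀ b ∈ Q8 F, Ru e he.unit b ∈ Y :=
    fun e he ue b hb => mem_sup_left
      ⟨mem_centralizer_singleton_iff.2 (commute_Ru _ ue b), he.mem_iff.2 hb⟩
  have hz : ∀ y ∈ Y, ∃ e, ∃ he : Om H e, u.val *ᵥ e = -e ∧
      y * Ru c hc.unit (-1) * y⁻¹ = Ru e he.unit (-1) := fun y hy => by
    obtain ⟨h, h1, h2, h4⟩ := hY y hy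
    refine ⟨_, hc.act h1, ?_, ?_⟩
    · rw [mulVec_mulVec, ← Submonoid.coe_mul, ← h2, Submonoid.coe_mul, ← mulVec_mulVec, uc,
        mulVec_neg]
    · rw [← conj_Ru _ hc.unit]
      rcases h4 with rfl | rfl
      · rfl
      · rw [mul_assoc h, ← commute_Ru _ uc]; group
  have ho : ∀ {O : Subgroup Y}, Odd (Nat.card O) → ∀ x ∈ O, x.val ∈ H ∧ Odd (orderOf x.val) :=
    fun hO x hx => by
      have h1 : Odd (orderOf x.val) := by
        rw [Subgroup.orderOf_coe]; exact hO.of_dvd_nat (orderOf_dvd_natCard _ hx)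
      refine ⟨mem_of_sq_mem h1 ?_, h1⟩
      obtain ⟨h, h1, h2, rfl | h4⟩ := hY _ x.2
      · exact mul_mem h1 h1
      · rw [h4, mul_assoc, ← mul_assoc u, ← h2, mul_assoc, uu, mul_one]
        exact mul_mem h1 h1
  rcases zstar_cases (G := Y) (u := ⟨u, mem_sup_right (mem_zpowers u)⟩)
    (t := ⟨_, hR c hc uc _ neg_one_mem⟩) (fun g => Subtype.ext (by
      obtain ⟨h, -, h2, e | e⟩ := hY _ g.2 <;> simp [e, mul_assoc, h2]))
    (Subtype.ext uu) (Subtype.ext (by simp [← map_mul]))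
    (fun e => ne_neg 1 (Ru_injective hc.unit ((map_one _).trans (congrArg Subtype.val e).symm)))
    (fun e => zu (congrArg Subtype.val e)) (fun g s hs h => by
      obtain ⟨e, he, ue, h4⟩ := hz _ g.2
      have h5 : s.val = Ru e he.unit (-1) := hs ▸ h4
      simp only [Subtype.ext_iff (p := (· ∈ Y)), Subgroup.coe_mul, Subgroup.coe_inv, h5] at h ⊢
      exact iso_aux hΩ h3 hc uc hu he ue h) with h | ⟨O, hn, hO, n, h1, h2, h4⟩
  · have h1 := ip_Ru_neg hc.unit hd.unit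
    have h2 := h ⟨_, hR d hd ud _ neg_one_mem⟩
    simp only [Subtype.ext_iff (p := (· ∈ Y)), Subgroup.coe_mul, Subgroup.coe_inv] at h2
    rcases iso_aux hΩ h3 hc uc hu hd ud h2 with e | e <;> rw [e] at h1
    · rw [Ru_neg_self, ip_neg, hc.unit, ← Quaternion.coe_one, ← Quaternion.coe_neg,
        Quaternion.coe_inj] at h1
      exact Or.inl (mul_left_cancel₀ (NeZero.ne (2 : F)) (by linear_combination h1))
    · rw [Submonoid.coe_mul, ← mulVec_mulVec, uc, mulVec_neg, Ru_neg_self, neg_neg, hc.unit,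
        ← Quaternion.coe_one, Quaternion.coe_inj] at h1
      exact Or.inr (mul_left_cancel₀ (NeZero.ne (2 : F)) (by linear_combination h1))
  · obtain ⟨e, he, ue, h5⟩ := hz _ n.2
    have h6 := h4 ⟨_, hR c hc uc _ i_mem⟩
    have h7 : ∀ k ∈ O ⊓ centralizer {⟨_, hR c hc uc _ neg_one_mem⟩}, k.val ∈ stab c := fun k hk =>
      mem_stab hc (ho hO _ hk.1).2
        (congrArg Subtype.val (mem_centralizer_singleton_iff.1 hk.2)) fun b hb => by
          have := ho hO _ (O.mul_mem hk.1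
            (hn.conj_mem _ (O.inv_mem hk.1) ⟨_, hR c hc uc b hb⟩))
          simpa only [Subgroup.coe_mul, Subgroup.coe_inv, mul_assoc] using this
    replace h7 := h7 _ h6
    simp only [commutatorElement_def, Subgroup.coe_mul, Subgroup.coe_inv, h5] at h7
    refine absurd (Subtype.ext ?_) h2
    simp only [Subgroup.coe_mul, Subgroup.coe_inv, h5]
    rcases norm_of_comm hc.unit he.unit h7 with h8 | h8
    · rw [Ru_eq_of_norm_one hΩ hc he h8]
    · rw [hu e he ue (eq_zero_of_norm_zero hΩ hc he h8), mul_assoc, ← commute_Ru _ uc]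

theorem norm_cases (hΩ : ∀ k, Om H (Pi.single k 1))
    (h3 : ∀ c d, Om H c → Om H d → 2 * normSq (ip c d) ≠ 1) (hc : Om H c) (hd : Om H d) :
    d = rs c (ip c d) ∨ ip c d = 0 := by
  by_cases h : normSq (ip c d) = 1
  · exact Or.inl (eq_of_norm_one hΩ hc hd h)
  obtain ⟨f, h1, h2, e⟩ := decomp hc.unit hd.unit
  have hγ := sub_ne_zero.2 (Ne.symm h)
  generalize 1 - normSq (ip c d) = γ at h2 hγ
  have h4 : ip f c = 0 := by rw [← star_ip, h1, star_zero]
  have uu : B c f (-2) 0 0 ((-2 * γ⁻¹ : F) : ℍ[F]) * B c f (-2) 0 0 ((-2 * γ⁻¹ : F) : ℍ[F]) = 1 := by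
    rw [B_mul hc.unit h1 h2, ← B_zero c f]
    congr 1 <;> ext <;> simp <;> field_simp <;> ring
  have us : star (B c f (-2) 0 0 ((-2 * γ⁻¹ : F) : ℍ[F])) = B c f (-2) 0 0 ((-2 * γ⁻¹ : F) : ℍ[F]) := by
    rw [star_B, star_coe]
    simp
  let u : UM ι F := ⟨_, by rw [Unitary.mem_iff, us, and_self, uu]⟩
  have uv : ∀ v, u.val *ᵥ v = v + rs c (-2 * ip c v) + rs f ((-2 * γ⁻¹) • ip f v) := fun v => by
    simp only [u, B, add_mulVec, E_mulVec, add_assoc, coe_mul_eq_smul, E_zero, zero_add, one_mulVec]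
  have zu : (Ru c hc.unit (-1) * u).val = B c f 0 0 0 ((-2 * γ⁻¹ : F) : ℍ[F]) := by
    rw [Submonoid.coe_mul, Ru_neg, B_left c f, B_mul hc.unit h1 h2]
    congr 1 <;> simp
    norm_num
  have hf : rs f ((-2 * γ⁻¹) • (γ : ℍ[F])) = -(f + f) := funext fun i => by
    simp [rs, mul_coe_eq_smul, smul_smul, hγ, two_smul]
  refine Or.inr (eq_zero_of_norm_zero hΩ hc hd ((norm_aux hΩ h3 hc (u := u) (Subtype.ext uu) ?_
    (fun h5 => ?_) (fun g hg ug h5 => Subtype.ext ?_) hd ?_).resolve_left h))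
  · funext i
    simp [uv, h4, hc.unit, rs, mul_two]
  · have := congrArg (fun x : UM ι F => ip f (x.val *ᵥ f)) h5
    simp only [uv, Ru_neg_mulVec, h1, h2, hf, mul_zero, rs_zero, add_zero, ip_add, ip_neg] at this
    exact hγ (Quaternion.coe_injective (two_cancel (eq_neg_iff_add_eq_zero.1 (by simpa using this))))
  · rw [uv, h5, mul_zero, rs_zero, add_zero] at ug
    have h6 : g = rs f (γ⁻¹ • ip f g) := funext fun i => sub_eq_zero.1 (two_cancel (by
      rw [← sub_eq_zero.2 (congrFun ug i)]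
      simp [rs, mul_smul, two_smul, mul_add]
      abel))
    have h7 := hg.unit
    rw [h6, rs_ip, ip_rs, h2, coe_mul_eq_smul, mul_smul_comm, star_mul_self, Quaternion.smul_coe,
      ← Quaternion.coe_one, Quaternion.coe_inj] at h7
    rw [zu, Ru_neg, h6, rs_E, E_rs, B_right c]
    generalize γ⁻¹ • ip f g = ν at h7
    congr 1
    rw [show (-2 : ℍ[F]) = ((-2 : F) : ℍ[F]) by ext <;> simp, ← coe_commutes, mul_assoc,
      self_mul_star, ← Quaternion.coe_mul, eq_inv_of_mul_eq_one_right h7]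
  · rw [e, mulVec_add, mulVec_rs, mulVec_rs, uv, uv, h1, h2, h4, hf, hc.unit]
    funext i
    simp [rs, mul_two, add_comm]

end H82.SpP
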