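import Mathlib
import Cfsg.Agent.Lib.SpPron.Iso

/-!
# The symplectic group as a unitary group over the quaternions
-/

set_option autoImplicit false
set_option linter.unusedSectionVars false

namespace H82.SpP

open Subgroup H61 Cfsg Quaternion Matrix
open Equiv (Perm)

variable {F : Type*} [Field F] [NeZero (2 : F)]

/-- the quaternions split -/
def qM {a b : F} (e : a ^ 2 + b ^ 2 + 1 = 0) : ℍ[F] ≃+* Matrix (Fin 2) (Fin 2) F where
  toFun x := !![x.re + a * x.imJ - b * x.imK, -x.imI + b * x.imJ + a * x.imK;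
    x.imI + b * x.imJ + a * x.imK, x.re - a * x.imJ + b * x.imK]
  invFun m := mkQ ((m 0 0 + m 1 1) / 2) ((m 1 0 - m 0 1) / 2)
    (-(a * (m 0 0 - m 1 1) + b * (m 0 1 + m 1 0)) / 2)
    ((b * (m 0 0 - m 1 1) - a * (m 0 1 + m 1 0)) / 2)
  left_inv x := by
    ext <;> simp <;> field_simp
    · linear_combination -2 * x.imJ * e
    · linear_combination -2 * x.imK * e
  right_inv m := by
    ext i j
    fin_cases i <;> fin_cases j <;> simp <;> field_simp
    · linear_combination (m 1 1 - m 0 0) * e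
    · linear_combination -(m 0 1 + m 1 0) * e
    · linear_combination -(m 0 1 + m 1 0) * e
    · linear_combination (m 0 0 - m 1 1) * e
  map_mul' x y := by
    ext i j
    fin_cases i <;> fin_cases j <;> simp
    · linear_combination -(x.imJ * y.imJ + x.imK * y.imK) * e
    · linear_combination (x.imK * y.imJ - x.imJ * y.imK) * e
    · linear_combination (x.imJ * y.imK - x.imK * y.imJ) * e
    · linear_combination -(x.imJ * y.imJ + x.imK * y.imK) * e
  map_add' x y := by
    ext i j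
    fin_cases i <;> fin_cases j <;> simp <;> ring

/-- hyperbolic pairs -/
def spE' (n : ℕ) : Fin n × Fin 2 ≃ Fin n ⊕ Fin n where
  toFun x := if x.2 = 0 then .inl x.1 else .inr x.1
  invFun := Sum.elim (fun i => (i, 0)) fun i => (i, 1)
  left_inv := by
    rintro ⟨i, a⟩
    fin_cases a <;> rfl
  right_inv := by rintro (i | i) <;> rfl

/-- matrices over the quaternions -/
def qMat {a b : F} (e : a ^ 2 + b ^ 2 + 1 = 0) (n : ℕ) :
    Matrix (Fin n) (Fin n) ℍ[F] ≃+* Matrix (Fin n ⊕ Fin n) (Fin n ⊕ Fin n) F :=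
  ((qM e).mapMatrix.trans (compRingEquiv _ _ _)).trans (reindexAlgEquiv F F (spE' n)).toRingEquiv

theorem qMat_eq {a b : F} (e : a ^ 2 + b ^ 2 + 1 = 0) {n : ℕ} (X : Matrix (Fin n) (Fin n) ℍ[F]) :
    qMat e n X = fromBlocks (X.map fun x => qM e x 0 0) (X.map fun x => qM e x 0 1)
      (X.map fun x => qM e x 1 0) (X.map fun x => qM e x 1 1) := by
  ext (i | i) (j | j) <;> rfl

theorem qMat_star {a b : F} (e : a ^ 2 + b ^ 2 + 1 = 0) {n : ℕ} (X : Matrix (Fin n) (Fin n) ℍ[F]) :
    qMat e n (star X) = -(J _ F * (qMat e n X)ᵀ * J _ F) := by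
  rw [qMat_eq, qMat_eq, J, fromBlocks_transpose, fromBlocks_multiply, fromBlocks_multiply]
  ext (i | i) (j | j) <;> simp [qM] <;> ring

theorem qMat_mem {a b : F} (e : a ^ 2 + b ^ 2 + 1 = 0) {n : ℕ} {X : Matrix (Fin n) (Fin n) ℍ[F]} :
    qMat e n X ∈ symplecticGroup (Fin n) F ↔ X ∈ UM (Fin n) F := by
  rw [Unitary.mem_iff, ← (qMat e n).injective.eq_iff, ← (qMat e n).injective.eq_iff, map_mul,
    map_mul, map_one, qMat_star, mul_eq_one_comm, and_self, SymplecticGroup.mem_iff]
  refine ⟨fun h => ?_, fun h => ?_⟩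
  · rw [mul_neg, ← mul_assoc, ← mul_assoc, h, J_squared, neg_neg]
  · have := congrArg (· * J _ F) h
    simpa only [mul_neg, neg_mul, mul_assoc, J_squared, mul_one, neg_neg, one_mul] using this

theorem exists_equiv [Finite F] (n : ℕ) : Nonempty (UM (Fin n) F ≃* symplecticGroup (Fin n) F) := by
  obtain ⟨a, b, e⟩ := exists_sq_add (F := F)
  exact ⟨⟨⟨fun x => ⟨_, (qMat_mem e).2 x.2⟩,
    fun y => ⟨(qMat e n).symm y, (qMat_mem e).1 (by simp)⟩, fun x => by simp, fun x => by simp⟩,
    fun x y => Subtype.ext (map_mul (qMat e n) _ _)⟩⟩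

variable {ι : Type*} [Fintype ι] [DecidableEq ι]

/-- permutation matrices -/
def pm (F : Type*) [Field F] : Perm ι →* Matrix ι ι ℍ[F] where
  toFun σ := Matrix.of fun i j => if i = σ j then 1 else 0
  map_one' := by ext1 i j; simp [one_apply]; rfl
  map_mul' σ ρ := by ext1 i j; simp [mul_apply]; rfl

theorem pm_apply (σ : Perm ι) (i j : ι) : pm F σ i j = if i = σ j then 1 else 0 := rfl

theorem star_pm (σ : Perm ι) : star (pm F σ) = pm F σ⁻¹ := by
  ext1 i j
  simp only [star_apply, pm_apply, Perm.eq_inv_iff_eq, eq_comm (a := j)]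
  split_ifs <;> simp

/-- the monomial group -/
def uWr (ι F : Type*) [Field F] [NeZero (2 : F)] [Fintype ι] [DecidableEq ι] :
    Wr (UM ι F) (U1 F) Unit ι where
  Φ :=
    { toFun x := ⟨diagonal fun i => (x.1 i).val, by
        simp [Unitary.mem_iff, star_eq_conjTranspose, diagonal_conjTranspose]⟩
      map_one' := Subtype.ext diagonal_one
      map_mul' _ _ := Subtype.ext (diagonal_mul_diagonal _ _).symm }
  τ := (pm F).codRestrict _ fun σ => by simp [Unitary.mem_iff, star_pm, ← map_mul]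
  conj σ f c := Subtype.ext (by
    ext1 i j
    change (pm F σ * diagonal _ : Matrix ι ι ℍ[F]) i j = (diagonal _ * pm F σ : Matrix ι ι ℍ[F]) i j
    rw [mul_diagonal, diagonal_mul, pm_apply]
    split_ifs with h <;> simp [h])
  inj x σ h := by
    have h1 : ∀ i, (x.1 i).val = if i = σ i then 1 else 0 := fun i => by
      simpa [pm_apply] using congrArg (fun y : UM ι F => y.val i i) h
    have h2 : ∀ i, i = σ i := fun i => by
      by_contra hi
      simpa [h1, hi] using norm_U1 (x.1 i)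
    exact ⟨Prod.ext (funext fun i => Subtype.ext (by rw [h1, if_pos (h2 i)]; rfl)) rfl,
      Equiv.ext fun i => (h2 i).symm⟩

theorem Phi_val (f : ι → U1 F) : ((uWr ι F).Φ (f, 1)).val = diagonal fun i => (f i).val := rfl

theorem wr_apply (f : ι → U1 F) (σ : Perm ι) (i j : ι) :
    ((uWr ι F).Φ (f, 1) * (uWr ι F).τ σ).val i j = if i = σ j then (f i).val else 0 := by
  change (diagonal _ * pm F σ : Matrix ι ι ℍ[F]) i j = _
  rw [diagonal_mul, pm_apply]
  simp

theorem φ_eq (k : ι) (a : U1 F) :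
    (uWr ι F).φ k a = Ru (Pi.single k 1) (by simp [single_ip]) a := Subtype.ext (by
  ext1 i j
  rw [Wr.φ_apply, Phi_val, Ru_val]
  by_cases hi : i = k <;> by_cases hj : j = k <;>
    simp [E, diagonal_apply, one_apply, hi, hj, eq_comm (a := k)])

theorem v2_card_UM [Finite F] (hq : Odd (Nat.card F)) (n : ℕ) :
    padicValNat 2 (Nat.card (UM (Fin n) F)) =
      padicValNat 2 (Nat.card F ^ 2 - 1) * n + padicValNat 2 n.factorial := by
  have h1 : 1 < Nat.card F := Finite.one_lt_card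
  obtain ⟨e⟩ := exists_equiv (F := F) n
  rw [Nat.card_congr e.toEquiv, H11.Sp.card_G, v2_odd_mul hq.pow (prod_even_ne_zero h1 n),
    v2_prod_even hq h1]

theorem card_U1 : Nat.card (U1 F) = Nat.card (UM (Fin 1) F) :=
  Nat.card_eq_of_bijective ((uWr (Fin 1) F).φ 0) ⟨fun a b h => Ru_injective _
    ((φ_eq 0 a).symm.trans (h.trans (φ_eq 0 b))), fun x => ⟨⟨x.val 0 0, by
      simpa [mul_apply, Unitary.mem_iff] using And.intro (congrFun (congrFun x.2.1 0) 0)
        (congrFun (congrFun x.2.2 0) 0)⟩, Subtype.ext (by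
      ext1 i j
      rw [Wr.φ_apply, Phi_val, Subsingleton.elim i 0, Subsingleton.elim j 0]
      simp)⟩⟩

theorem sylIn_uWr [Finite F] (hq : Odd (Nat.card F)) {n : ℕ} {Q : Subgroup (U1 F)}
    (hQ : SylIn 2 Q ⊤) {T : Subgroup (Perm (Fin n))} (hT : SylIn 2 T ⊤) :
    SylIn 2 ((uWr (Fin n) F).sub Q ⊥ T) ⊤ := by
  refine Wr.sylIn _ hQ.pgrp IsPGroup.of_bot hT.pgrp ?_
  rw [v2_card_UM hq, sylIn_top_card hQ, card_sylow_perm hT, card_U1, v2_card_UM hq]
  simp [pow_add, pow_mul]

end H82.SpP
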