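import Mathlib
import Cfsg.Agent.Lib.SpPron.Model

/-!
# Subgroups of odd index of symplectic groups of dimension a power of two
-/

set_option autoImplicit false
set_option linter.unusedSectionVars false

namespace H82.SpP

open Subgroup H61 Cfsg Quaternion Matrix
open Equiv (Perm)
open scoped Pointwise

attribute [local simp] Unitary.coe_neg

variable {F : Type*} [Field F] [NeZero (2 : F)] {ι : Type*} [Fintype ι] [DecidableEq ι]

theorem cancel {x y : ℍ[F]} (h : x * y = 0) (hy : normSq y ≠ 0) : x = 0 := by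
  have := congrArg (· * star y) h
  simpa [mul_assoc, self_mul_star, mul_coe_eq_smul, hy] using this

theorem exists_wr {x : UM ι F} (h : ∀ k, ∃ l, ∀ m, m ≠ l → x.val m k = 0) :
    ∃ f σ, x = (uWr ι F).Φ (f, 1) * (uWr ι F).τ σ := by
  choose s hs using h
  have h1 : ∀ k k', star (x.val (s k) k) * x.val (s k) k' = if k = k' then 1 else 0 := fun k k' => by
    have := congrFun (congrFun x.2.1 k) k'
    rwa [mul_apply, Finset.sum_eq_single (s k) (fun m _ hm => by simp [hs k m hm]) (by simp),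
      one_apply] at this
  have h2 : ∀ k, normSq (x.val (s k) k) = 1 := fun k => Quaternion.coe_injective (by
    simpa [star_mul_self] using h1 k k)
  have h3 : Function.Injective s := fun k k' e => by
    by_contra h
    have := cancel ((h1 k k').trans (if_neg h)) (by simp [e, h2])
    simpa [star_eq_zero.1 this] using h2 k
  let σ := Equiv.ofBijective s (Finite.injective_iff_bijective.1 h3)
  refine ⟨fun l => ⟨_, mem_U1.2 (h2 (σ.symm l))⟩, σ, Subtype.ext ?_⟩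
  ext1 i j
  rw [wr_apply]
  split_ifs with h
  · rw [h, σ.symm_apply_apply]; rfl
  · exact hs j i h

theorem diag_case {c : ι → ℍ[F]} (hc : ip c c = 1) {a : ℍ[F]} (ha : normSq a ≠ 0)
    (h : ∀ l m, l ≠ m → (1 + E c a c) l m = 0) : ∃ l, ∀ m, m ≠ l → c m = 0 := by
  obtain ⟨l, hl⟩ : ∃ l, normSq (c l) ≠ 0 := by
    by_contra h1
    push Not at h1
    simp [ip, star_mul_self, h1] at hc
  exact ⟨l, fun m hm => cancel (cancel (y := star (c l)) (by simpa [E, hm] using h m l hm)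
    (by simpa using hl)) ha⟩

theorem wr_mem {Q : Subgroup (U1 F)} {T : Subgroup (Perm ι)} {f : ι → U1 F} {σ : Perm ι} :
    (uWr ι F).Φ (f, 1) * (uWr ι F).τ σ ∈ (uWr ι F).sub Q ⊥ T ↔ (∀ i, f i ∈ Q) ∧ σ ∈ T := by
  refine ⟨fun h => ?_, fun h => mul_mem (Wr.Phi_mem _ h.1 (one_mem _)) (Wr.tau_mem _ h.2)⟩
  obtain ⟨g, c, ρ, h1, -, h2, h3⟩ := (uWr ι F).mem_sub.1 h
  obtain ⟨h4, rfl⟩ := (uWr ι F).eq_iff.1 h3
  exact ⟨(show g = f from congrArg Prod.fst h4) ▸ h1, h2⟩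

theorem Phi_tau (f : ι → U1 F) (ρ : Perm ι) :
    (uWr ι F).Φ (f, 1) * (uWr ι F).τ ρ * ((uWr ι F).Φ (f, 1))⁻¹ =
      (uWr ι F).Φ (fun i => f i * (f (ρ⁻¹ i))⁻¹, 1) * (uWr ι F).τ ρ := by
  rw [← map_inv, mul_assoc, Prod.inv_mk, (uWr ι F).conj, ← mul_assoc, ← map_mul]
  rfl

theorem Phi_φ (f : ι → U1 F) (k : ι) (a : U1 F) :
    (uWr ι F).Φ (f, 1) * (uWr ι F).φ k a * ((uWr ι F).Φ (f, 1))⁻¹ =
      (uWr ι F).φ k (f k * a * (f k)⁻¹) := by
  rw [Wr.φ_apply, Wr.φ_apply, ← map_inv, ← map_mul, ← map_mul]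
  refine congrArg _ (Prod.ext (funext fun i => ?_) rfl)
  by_cases h : i = k
  · subst h; simp
  · simp [h]

/-- scalar matrices -/
def Δ (ι : Type*) [Fintype ι] [DecidableEq ι] : U1 F →* UM ι F :=
  (uWr ι F).Φ.comp ((Pi.constMonoidHom ι _).prod 1)

theorem Δ_apply (t : U1 F) : Δ ι t = (uWr ι F).Φ (fun _ => t, 1) := rfl

variable [Finite F] {T : Subgroup (Perm ι)}

theorem exists_of_normalizer [Nonempty ι] {Q : Subgroup (U1 F)} (hi : ui ∈ Q) (hT : SylIn 2 T ⊤)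
    (ht : ∀ i j, ∃ t ∈ T, t i = j) {x : UM ι F}
    (hx : x ∈ normalizer ((uWr ι F).sub Q ⊥ T : Set (UM ι F))) :
    ∃ s ∈ (uWr ι F).sub Q ⊥ T, ∃ t ∈ normalizer (Q : Set (U1 F)), x = s * Δ ι t := by
  obtain ⟨f, σ, rfl⟩ := exists_wr (x := x) fun k => by
    obtain ⟨f, c, ρ, -, -, -, h⟩ := (uWr ι F).mem_sub.1
      ((mem_normalizer_iff.1 hx _).1 (Wr.φ_mem _ k hi))
    rw [φ_eq, conj_Ru] at h
    have h1 := fun l m => (wr_apply f ρ l m).symm.trans (congrArg (fun y : UM ι F => y.val l m) h)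
    simp only [Ru_val] at h1
    have h2 : ∀ l, l = ρ l := fun l => by
      by_contra hl
      have h3 := h1 l l
      simp only [if_neg hl, Matrix.add_apply, one_apply_eq, E, of_apply] at h3
      generalize (x.val *ᵥ Pi.single k 1) l = y at h3
      have h4 := congrArg normSq (eq_neg_of_add_eq_zero_left h3.symm)
      have h5 := congrArg (fun z : ℍ[F] => z.re) h3
      simp only [map_one, normSq_neg, map_mul, normSq_star] at h4
      simp [normSq_def', ui] at h4 h5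
      exact one_ne_zero (α := F) (by
        linear_combination -h4 - 2 * (1 + y.re ^ 2 + y.imI ^ 2 + y.imJ ^ 2 + y.imK ^ 2) * h5)
    simpa using diag_case ((ip_unit x _ _).trans (by simp [single_ip])) (a := ui.val - 1)
      (by simpa [normSq_def', ui, one_add_one_eq_two] using NeZero.ne (2 : F))
      fun l m hlm => (h1 l m).symm.trans (if_neg (h2 m ▸ hlm))
  have h1 : σ ∈ T := hT.normalizer_le_of_top (mem_normalizer_fintype fun ρ hρ => by
    have := (mem_normalizer_iff.1 hx _).1 (Wr.tau_mem _ hρ)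
    rw [_root_.mul_inv_rev, ← map_inv (uWr ι F).τ, ← mul_assoc, mul_assoc _ _ ((uWr ι F).τ ρ), ← map_mul,
      mul_assoc _ _ ((uWr ι F).τ σ⁻¹), ← map_mul, Phi_tau] at this
    exact (wr_mem.1 this).2)
  have h2 := mul_mem hx (inv_mem (le_normalizer (Wr.tau_mem _ h1)))
  rw [mul_inv_cancel_right] at h2
  obtain ⟨k⟩ := ‹Nonempty ι›
  refine ⟨_, wr_mem.2 ⟨fun i => (?_ : f i * (f k)⁻¹ ∈ Q), h1⟩, f k,
    mem_normalizer_fintype fun a ha => ?_, ?_⟩
  · obtain ⟨ρ, hρ, rfl⟩ := ht k i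
    have := (mem_normalizer_iff.1 h2 _).1 (Wr.tau_mem _ hρ)
    rw [Phi_tau] at this
    simpa using (wr_mem.1 this).1 (ρ k)
  · have := (mem_normalizer_iff.1 h2 _).1 (Wr.φ_mem _ k ha)
    rw [Phi_φ, Wr.φ_apply, ← mul_one ((uWr ι F).Φ _), ← map_one (uWr ι F).τ] at this
    simpa using (wr_mem.1 this).1 k
  · rw [Δ_apply, mul_assoc, (uWr ι F).conj, ← mul_assoc, ← map_mul]
    simp [Pi.mul_def]

theorem th_mem_of_sum [Nonempty ι] (hT : IsPGroup 2 T) (ht : ∀ i j, ∃ t ∈ T, t i = j)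
    {H : Subgroup (UM ι F)} (hH : ∀ σ ∈ T, (uWr ι F).τ σ ∈ H) {c : ι → ℕ}
    (hc : (uWr ι F).Φ (fun i => th ^ c i, 1) ∈ H) {a : ℕ} (ha : ∑ i, c i = 2 ^ a) :
    Δ ι th ∈ H := by
  let U : AddSubmonoid (ι → ℕ) :=
    { carrier := {c | (uWr ι F).Φ (fun i => th ^ c i, 1) ∈ H}
      zero_mem' := by simpa using (map_one (uWr ι F).Φ).symm ▸ H.one_mem
      add_mem' := fun ha hb => by simpa [← map_mul, Pi.mul_def, ← pow_add] using H.mul_mem ha hb }
  have := Fintype.ofFinite T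
  have h1 : ∑ t : T, (fun i => c (t.val⁻¹ i)) ∈ U := sum_mem fun t _ => by
    have := mul_mem (mul_mem (hH _ t.2) hc) (inv_mem (hH _ t.2))
    rwa [Wr.conj'] at this
  obtain ⟨k⟩ := ‹Nonempty ι›
  have h2 : ∀ i, (∑ t : T, fun i => c (t.val⁻¹ i)) i = ∑ t : T, c (t.val⁻¹ k) := fun i => by
    obtain ⟨ρ, hρ, rfl⟩ := ht k i
    rw [Finset.sum_apply]
    exact (Fintype.sum_equiv (Equiv.mulLeft ⟨ρ, hρ⟩) _ _ fun t => by simp).symm
  obtain ⟨b, hb⟩ := IsPGroup.iff_card.1 hT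
  have h3 : ∑ t : T, c (t.val⁻¹ k) ∣ 2 ^ (b + a) := Dvd.intro_left (Fintype.card ι) (by
    have h4 := Finset.sum_congr (rfl : Finset.univ = _) fun i _ => h2 i
    rw [Finset.sum_const, Finset.card_univ, smul_eq_mul] at h4
    simp only [← h4, Finset.sum_apply]
    rw [Finset.sum_comm, Finset.sum_congr rfl fun t _ => (Equiv.sum_comp t.val⁻¹ c).trans ha,
      Finset.sum_const, Finset.card_univ, smul_eq_mul, ← Nat.card_eq_fintype_card, hb, pow_add])
  have h4 : Δ ι th ^ ∑ t : T, c (t.val⁻¹ k) ∈ H := by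
    rw [← map_pow, Δ_apply]
    simpa only [h2] using show (uWr ι F).Φ (fun i => th ^ _, 1) ∈ H from h1
  refine zpowers_le.2 h4 (mem_zpowers_pow_iff.2 (Nat.Coprime.coprime_dvd_left h3
    (Nat.Coprime.coprime_dvd_right (orderOf_dvd_of_pow_eq_one (n := 3) ?_)
      (Nat.Coprime.pow_left _ (by norm_num)))))
  rw [← map_pow, th_pow, map_one]

theorem B_std {l k : ι} (h : l ≠ k) (a b : U1 F) : ((uWr ι F).φ l a * (uWr ι F).φ k b).val =
    B (Pi.single l 1) (Pi.single k 1) (a.val - 1) 0 0 (b.val - 1) := by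
  rw [φ_eq, φ_eq, Submonoid.coe_mul, Ru_val, Ru_val, B_left _ (Pi.single k 1),
    B_right (Pi.single l 1), B_mul (γ := 1) (by simp [single_ip]) (by simp [single_ip, h])
      (by simp [single_ip])]
  simp

theorem th_of_swap (hQ : SylIn 2 (Q8 F) ⊤) {H : Subgroup (UM ι F)}
    (hH : ∀ k, ∀ a ∈ Q8 F, (uWr ι F).φ k a ∈ H) {c : ι → ℍ[F]} (hc : Om H c) {f : ι → U1 F}
    (hf : ∀ i, f i ∈ Q8 F) {σ : Perm ι}
    (h : (uWr ι F).Φ (f, 1) * (uWr ι F).τ σ = Ru c hc.unit (-1)) {l : ι} (hl : l ≠ σ l) :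
    (uWr ι F).φ l th * (uWr ι F).φ (σ l) th ∈ H := by
  have h1 := fun m => (wr_apply f σ m l).symm.trans (congrArg (fun y : UM ι F => y.val m l) h)
  simp only [Ru_neg, Matrix.add_apply, E, of_apply, one_apply] at h1
  generalize σ l = k at h1 hl
  have t2 : (2 : F) ≠ 0 := NeZero.ne _
  have h2 := h1 l
  rw [if_neg hl, if_pos rfl] at h2
  have h3 : 2 * normSq (c l) = 1 := by
    have := congrArg (fun z : ℍ[F] => z.re) h2
    simp at this
    rw [normSq_def']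
    linear_combination this
  have h4 : normSq (c l) = 2⁻¹ := eq_inv_of_mul_eq_one_right h3
  have h5 : ∀ x, x * -2 * star (c l) * -c l = x := fun x => by
    rw [mul_assoc, mul_neg (star (c l)), star_mul_self, h4]
    ext <;> simp [t2]
  have h6 : ((uWr ι F).φ k (-(f k)⁻¹)).val *ᵥ c =
      rs (rs (Pi.single l 1) 1 + rs (Pi.single k 1) 1) (c l) := funext fun m => by
    have := congrArg (· * -c l) (h1 m)
    rw [φ_eq, Ru_mulVec, single_ip]
    by_cases hm : m = k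
    · subst hm
      simp only [if_true, if_neg hl.symm, zero_add, h5] at this
      simp [rs, hl.symm, ← this, ← Unitary.star_eq_inv, sub_mul, ← mul_assoc]
    · by_cases hm' : m = l
      · simp [rs, hm', hl]
      · simpa [rs, hm, hm', h5, -mul_neg] using this.symm
  have h7 := hc.act (hH k _ ((neg_mem_iff' neg_one_mem).2 (inv_mem (hf k))))
  rw [h6] at h7
  generalize c l = μ at h4 h7
  have e1 : ∀ x, μ * (star μ * x) = (2⁻¹ : F) • x := fun x => by
    rw [← mul_assoc, self_mul_star, h4, coe_mul_eq_smul]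
  have e2 : μ * star μ = (2⁻¹ : F) • 1 := by simpa using e1 1
  let cj : U1 F →* U1 F :=
    { toFun b := ⟨(2 : F) • (star μ * b * μ), mem_U1.2 (by
        simp [normSq_smul, h4, norm_U1]; field_simp)⟩
      map_one' := Subtype.ext (by ext <;> simp [star_mul_self, h4, t2])
      map_mul' a b := Subtype.ext (by simp [mul_assoc, e1, smul_smul, t2]) }
  have h8 : ∀ b ∈ Q8 F, B (Pi.single l 1) (Pi.single k 1) ((2⁻¹ : F) • (b.val - 1))
      ((2⁻¹ : F) • (b.val - 1)) ((2⁻¹ : F) • (b.val - 1)) ((2⁻¹ : F) • (b.val - 1)) ∈ Hm H := by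
    intro b hb
    have h9 := h7.act (mul_mem (hH l b hb) (hH k b hb))
    rw [show _ *ᵥ _ = rs (rs (rs (Pi.single l 1) 1 + rs (Pi.single k 1) 1) μ) (cj b) by
      rw [B_std hl, rs_rs, mulVec_rs]
      funext m
      simp [B, add_mulVec, E_mulVec, single_ip, hl, hl.symm, cj, rs, mul_assoc, e1, smul_smul,
        add_mul, sub_mul, mul_sub, t2]
      abel] at h9
    have h10 : cj b ∈ Q8 F := hQ.mem_of_mem_normalizer (k := 2) (mem_top _)
      (by rw [← map_pow, pow_four hb, map_one]) (mem_normalizer_fintype fun a ha =>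
        h7.mem_iff.1 (Ru_rs h7.unit _ _ h9.unit ▸ h9.mem_iff.2 ha))
    have h11 := mem_Hm.2 (h7.mem_iff.2 h10)
    rw [Ru_val, rs_E, E_rs, B_add] at h11
    convert h11 using 2 <;> simp [cj, mul_sub, sub_mul, mul_assoc, e1, e2, smul_smul, smul_sub, t2]
  have h9 := mul_mem (mul_mem (mul_mem (h8 _ i_mem)
    (mem_Hm.2 (mul_mem (hH l _ k_mem) (hH k _ (one_mem _))))) (h8 _ j_mem))
    (mem_Hm.2 (mul_mem (hH l _ ((neg_mem_iff' neg_one_mem).2 i_mem)) (hH k _ neg_one_mem)))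
  refine mem_Hm.1 ?_
  convert h9 using 1
  have h10 := B_mul (c := Pi.single l (1 : ℍ[F])) (f := Pi.single k 1) (γ := 1)
    (by simp [single_ip]) (by simp [single_ip, hl]) (by simp [single_ip])
  simp only [B_std hl, h10]
  congr 1 <;> ext <;> simp [th, ui, uj, uk] <;> field_simp <;> ring

theorem th_of_half (hQ : SylIn 2 (Q8 F) ⊤) {H : Subgroup (UM ι F)}
    (hS : SylIn 2 ((uWr ι F).sub (Q8 F) ⊥ T) H) {c d : ι → ℍ[F]} (hc : Om H c) (hd : Om H d)
    (h : 2 * normSq (ip c d) = 1) :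
    ∃ l k, l ≠ k ∧ (uWr ι F).φ l th * (uWr ι F).φ k th ∈ H := by
  have z2 : ∀ {c : ι → ℍ[F]} (hc : ip c c = 1), Ru c hc (-1) * Ru c hc (-1) = 1 := fun hc => by
    simp [← map_mul]
  have h1 := ip_Ru_neg hc.unit hd.unit
  rw [h, sub_self, Quaternion.coe_zero] at h1
  have h2 := conj_Ru (Ru c hc.unit (-1)) (hc.act (hd.mem_iff.2 neg_one_mem)).unit (-1)
  simp only [Ru_neg_mulVec hc.unit, h1, mul_zero, rs_zero, add_zero] at h2
  rw [← conj_Ru _ hc.unit, inv_eq_of_mul_eq_one_right (z2 _), inv_eq_of_mul_eq_one_right (z2 _)]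
    at h2
  obtain ⟨x, hx, h3⟩ := hS.exists_conj (H9.isPGroup_closure_pair (z2 hc.unit) (z2 hd.unit) (a := 2)
    (by
      generalize Ru d hd.unit (-1) = b, Ru c hc.unit (-1) = a, z2 hc.unit = a2, z2 hd.unit = b2 at h2
      calc _ = a * (b * a * b) * a * (b * a * b) * (b * b) := by simp [pow_succ, mul_assoc, b2]
        _ = b * (a * (b * b) * a) * b * (b * b) := by rw [h2]; simp only [mul_assoc]
        _ = 1 := by simp [a2, b2]))
    ((closure_le _).2 (Set.pair_subset (hc.mem_iff.2 neg_one_mem) (hd.mem_iff.2 neg_one_mem)))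
  have key : ∀ {c : ι → ℍ[F]} (hc : Om H c), Ru c hc.unit (-1) ∈ (uWr ι F).sub (Q8 F) ⊥ T →
      (∃ l k, l ≠ k ∧ (uWr ι F).φ l th * (uWr ι F).φ k th ∈ H) ∨
        ∃ l, normSq (c l) = 1 ∧ ∀ m, m ≠ l → c m = 0 := fun {c} hc h => by
    obtain ⟨f, ⟨⟩, σ, hf, -, -, e⟩ := (uWr ι F).mem_sub.1 h
    by_cases hσ : ∀ l, l = σ l
    · obtain ⟨l, hl⟩ := diag_case hc.unit (a := -2) (by
        simpa [normSq_def'] using NeZero.ne (2 : F)) fun l m hlm => by
          rw [← Ru_neg hc.unit, ← e]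
          exact (wr_apply f σ l m).trans (if_neg (hσ m ▸ hlm))
      refine Or.inr ⟨l, Quaternion.coe_injective ?_, hl⟩
      have := hc.unit
      rwa [ip, Finset.sum_eq_single l (fun m _ hm => by simp [hl m hm]) (by simp),
        star_mul_self] at this
    · obtain ⟨l, hl⟩ := not_forall.1 hσ
      exact Or.inl ⟨_, _, hl, th_of_swap hQ (fun k a ha => hS.le (Wr.φ_mem _ k ha)) hc hf e hl⟩
  rw [← ip_unit x] at h
  rcases key (hc.act hx) (by rw [← conj_Ru x hc.unit]; exact h3 _ (subset_closure (by simp)))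
    with h4 | ⟨l, h4, h5⟩
  · exact h4
  rcases key (hd.act hx) (by rw [← conj_Ru x hd.unit]; exact h3 _ (subset_closure (by simp)))
    with h6 | ⟨m, h6, h7⟩
  · exact h6
  refine absurd h ?_
  rw [ip, Finset.sum_eq_single l (fun m _ hm => by simp [h5 m hm]) (by simp), map_mul, normSq_star,
    h4, one_mul]
  by_cases hlm : l = m
  · rw [hlm, h6, mul_one, ← one_add_one_eq_two, add_eq_left]
    exact one_ne_zero
  · simp [h7 l hlm]

theorem mem_normalizer_of_th [Nonempty ι] (hQ : SylIn 2 (Q8 F) ⊤) (hT : IsPGroup 2 T)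
    (ht : ∀ i j, ∃ t ∈ T, t i = j) {H : Subgroup (UM ι F)}
    (hS : SylIn 2 ((uWr ι F).sub (Q8 F) ⊥ T) H) (h1 : Δ ι th ∉ H)
    (h2 : ∀ k, H.comap ((uWr ι F).φ k) ≤ Q8 F) {t : U1 F}
    (h : t ∈ normalizer (Q8 F : Set (U1 F))) : Δ ι t ∈ normalizer (H : Set (UM ι F)) := by
  have hΩ : ∀ k, Om H (Pi.single k 1) := fun k => ⟨by simp [single_ip], le_antisymm
    (fun a ha => h2 k (show _ ∈ H from φ_eq k a ▸ ha))
    fun a ha => show _ ∈ H from φ_eq k a ▸ hS.le (Wr.φ_mem _ k ha)⟩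
  refine mem_normalizer_fintype fun x hx => ?_
  obtain ⟨f, σ, rfl⟩ := exists_wr (x := x) fun k => by
    have h3 := fun l => norm_cases hΩ (fun c d hc hd h => h1 (by
      obtain ⟨l, k, hlk, h⟩ := th_of_half hQ hS hc hd h
      refine th_mem_of_sum hT ht (fun σ hσ => hS.le (Wr.tau_mem _ hσ))
        (c := Pi.single l 1 + Pi.single k 1) (a := 1) ?_ (by simp [Finset.sum_add_distrib])
      convert h using 1
      rw [Wr.φ_apply, Wr.φ_apply, ← map_mul]
      refine congrArg _ (Prod.ext (funext fun i => ?_) rfl)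
      by_cases e : i = l <;> by_cases e' : i = k <;> simp [e, e', hlk, hlk.symm]))
      (hΩ l) ((hΩ k).act hx)
    by_cases h4 : ∀ l, x.val l k = 0
    · exact ⟨k, fun m _ => h4 m⟩
    obtain ⟨l, hl⟩ := not_forall.1 h4
    refine ⟨l, fun m hm => ?_⟩
    simpa [rs, hm] using congrFun ((h3 l).resolve_right (by simpa [single_ip] using hl)) m
  have h3 : ∀ l, f l ∈ normalizer (Q8 F : Set (U1 F)) := fun l =>
    mem_normalizer_fintype fun a ha => h2 l (by
      have := mul_mem (mul_mem hx (hS.le (Wr.φ_mem _ (σ⁻¹ l) ha))) (inv_mem hx)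
      rwa [_root_.mul_inv_rev, ← mul_assoc, mul_assoc _ _ ((uWr ι F).φ _ _),
        mul_assoc _ _ ((uWr ι F).τ σ)⁻¹, Wr.tau_φ, Phi_φ, show σ (σ⁻¹ l) = l by simp] at this)
  convert mul_mem (hS.le (Wr.Phi_mem _ (fun l => comm_mem_Q8 hQ h (h3 l)) (one_mem _))) hx using 1
  rw [Δ_apply, ← mul_assoc, ← map_mul, ← map_inv, mul_assoc, Prod.inv_mk, (uWr ι F).conj,
    ← mul_assoc, ← map_mul, ← mul_assoc, ← map_mul]
  simp [Pi.mul_def]

theorem pn_uWr [Nonempty ι] {Q : Subgroup (U1 F)} (hQ : SylIn 2 Q ⊤) (h8 : Q8 F ≤ Q)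
    (hT : SylIn 2 T ⊤) (ht : ∀ i j, ∃ t ∈ T, t i = j) (hS : SylIn 2 ((uWr ι F).sub Q ⊥ T) ⊤) :
    PN ((uWr ι F).sub Q ⊥ T) := by
  have hΔ : ∀ q ∈ Q, Δ ι q ∈ (uWr ι F).sub Q ⊥ T := fun q hq =>
    Wr.Phi_mem _ (fun _ => hq) (one_mem _)
  by_cases h : Q ≤ Q8 F
  swap
  · have : normalizer ((uWr ι F).sub Q ⊥ T : Set (UM ι F)) ≤ (uWr ι F).sub Q ⊥ T := fun x hx => by
      obtain ⟨s, hs, t, ht, rfl⟩ := exists_of_normalizer (h8 i_mem) hT ht hx
      exact mul_mem hs (hΔ _ (normalizer_le hQ h8 h ht))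
    exact ⟨hS, fun g hg n hn => mul_mem (mul_mem (mul_mem (this hg) (this hn)) (inv_mem (this hg)))
      (inv_mem (this hn)), fun H hH g hg => Or.inl (mem_sup_left (hH (this hg)))⟩
  obtain rfl := le_antisymm h h8
  refine ⟨hS, fun g hg n hn => ?_, fun H hH g hg => or_iff_not_imp_left.2 fun h1 => ?_⟩
  · obtain ⟨s, hs, t, h1, rfl⟩ := exists_of_normalizer i_mem hT ht hg
    obtain ⟨s', hs', t', h2, rfl⟩ := exists_of_normalizer i_mem hT ht hn
    rw [mul_mem_cancel_left (le_normalizer hs)] at hg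
    rw [mul_mem_cancel_left (le_normalizer hs')] at hn
    convert mul_mem (mul_mem (mul_mem (mul_mem hs ((mem_normalizer_iff.1 hg _).1 hs'))
      (hΔ _ (comm_mem_Q8 hQ h1 h2))) ((mem_normalizer_iff.1 hn _).1 (inv_mem hs))) (inv_mem hs')
      using 1
    simp only [map_mul, map_inv]
    group
  obtain ⟨s, hs, t, h2, rfl⟩ := exists_of_normalizer i_mem hT ht hg
  have h3 : Δ ι th ∉ H ⊔ MulAut.conj (s * Δ ι t) • H := fun h3 => h1 (by
    obtain ⟨q, hq, c, rfl⟩ := exists_pow_th hQ h2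
    refine mul_mem (mem_sup_left (hH hs)) ?_
    rw [map_mul (Δ ι), map_zpow] at h3 ⊢
    exact mul_mem (zpow_mem h3 c) (mem_sup_left (hH (hΔ q hq))))
  obtain ⟨t', h4, h5⟩ : ∃ t', (t' = th ∨ t' = th⁻¹) ∧ t'⁻¹ * t ∈ Q8 F := by
    rcases mem_normalizer_Q8 hQ h2 with h4 | h4 | h4
    · exact absurd (mem_sup_left (hH (mul_mem hs (hΔ t h4)))) h1
    · exact ⟨_, Or.inl rfl, h4⟩
    · exact ⟨_, Or.inr rfl, by simpa using h4⟩
  refine mul_mem (le_normalizer (hH hs)) (mem_normalizer_of_th hQ hT.pgrp ht (hS.mono hH le_top)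
    (fun h => h3 (mem_sup_left h)) (fun k => ?_) h2)
  refine le_Q8 hQ (L := (H ⊔ MulAut.conj (s * Δ ι t) • H).comap ((uWr ι F).φ k))
    (fun a ha => hH (Wr.φ_mem _ k ha)) (comap_mono le_sup_left) (fun h => h3 ?_) h4 fun x hx => ?_
  · refine th_mem_of_sum hT.pgrp ht (fun σ hσ => mem_sup_left (hH (Wr.tau_mem _ hσ)))
      (c := Pi.single k 1) (a := 0) ?_ (by simp)
    convert mem_comap.1 h using 1
    refine congrArg _ (Prod.ext (funext fun i => ?_) rfl)
    by_cases e : i = k <;> simp [e]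
  · have h6 := mul_mem (mul_mem (inv_mem (hH (hΔ _ h5))) (mem_comap.1 hx)) (hH (hΔ _ h5))
    have h7 : MulAut.conj (s * Δ ι t) _ ∈ MulAut.conj (s * Δ ι t) • H :=
      smul_mem_pointwise_smul _ _ _ h6
    rw [mem_comap, ← Phi_φ (fun _ => t'), ← Δ_apply]
    convert mul_mem (mul_mem (inv_mem (mem_sup_left (hH hs))) (mem_sup_right h7))
      (mem_sup_left (hH hs)) using 1
    simp only [MulAut.conj_apply, map_mul (Δ ι), map_inv (Δ ι)]
    group

theorem exists_pn (hq : Odd (Nat.card F)) (j : ℕ) : ∃ S : Subgroup (UM (Fin (2 ^ j)) F), PN S := by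
  obtain ⟨Q, hQ, h8⟩ := SylIn.exists_le (isPGroup_Q8 (F := F)) le_top
  obtain ⟨T, hT⟩ := SylIn.exists_sylIn (p := 2) (⊤ : Subgroup (Perm (Fin (2 ^ j))))
  exact ⟨_, pn_uWr hQ h8 hT (exists_of_sylow_perm_two_pow hT (Fintype.card_fin _))
    (sylIn_uWr hq hQ hT)⟩

end H82.SpP
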